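import Groth.Agent.Ega41SymGr.PrimeField
import Groth.Agent.EGA41Two.GrLength

/-! Regular local rings satisfy the symmetric algebra condition. -/

universe u

open IsLocalRing Finset

namespace Groth.Ega41SymGr

variable {A : Type u} [CommRing A]

theorem smul_tprod_eq_zero (J : Ideal A) {ι : Type u} [Nonempty ι] {a : A} (ha : a ∈ J) (y : ι → J.Cotangent) :
    a • SymmetricPower.tprod A y = 0 := by
  classical
  obtain ⟨i⟩ := ‹Nonempty ι›
  have h1 : a • y i = 0 := by
    obtain ⟨x, hx⟩ := Ideal.toCotangent_surjective J (y i)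
    rw [← hx, ← map_smul, Ideal.toCotangent_eq_zero, Submodule.coe_smul, smul_eq_mul, sq]
    exact Ideal.mul_mem_mul ha x.2
  have := (SymmetricPower.tprod A (ι := ι) (M := J.Cotangent)).map_update_smul y i a (y i)
  rw [Function.update_eq_self, h1] at this
  rw [← this]
  exact MultilinearMap.map_coord_zero _ i (Function.update_self ..)

/-- A quasi-regular generating family gives the symmetric algebra condition. -/
theorem symGrBijective_of_isQuasiRegular (J : Ideal A) {c : ℕ} (f : Fin c → A)
    (hspan : Ideal.span (Set.range f) = J) (hq : CAlgX.IsQuasiRegular f) : PP16.SymGrBijective A J := by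
  classical
  intro ι _ _
  obtain ⟨φ, hφ, hsurj⟩ := exists_symPower_hom J ι
  refine ⟨φ, hφ, ?_, hsurj⟩
  let fJ : Fin c → J := fun j => ⟨f j, hspan.le (Ideal.subset_span ⟨j, rfl⟩)⟩
  let T : (ι → Fin c) → SymmetricPower A ι J.Cotangent := fun g => SymmetricPower.tprod A fun i => J.toCotangent (fJ (g i))
  have htop : Submodule.span A (Set.range T) = ⊤ := by
    rw [eq_top_iff, ← SymmetricPower.span_tprod_eq_top A ι J.Cotangent, Submodule.span_le]
    rintro _ ⟨y, rfl⟩
    choose x hx using fun i => Ideal.toCotangent_surjective J (y i)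
    have hmem : ∀ z : J, ∃ a : Fin c → A, z = ∑ j, a j • fJ j := fun z => by
      obtain ⟨a, ha⟩ := (Submodule.mem_span_range_iff_exists_fun A).mp (hspan.ge z.2)
      exact ⟨a, Subtype.ext (by rw [← ha, Submodule.coe_sum]; rfl)⟩
    choose a ha using hmem
    have hy : y = fun i => ∑ j, a (x i) j • J.toCotangent (fJ j) := funext fun i => by
      conv_lhs => rw [← hx i, ha (x i), map_sum]
      simp only [map_smul]
    rw [hy, SetLike.mem_coe, MultilinearMap.map_sum]
    refine sum_mem fun g _ => ?_
    rw [MultilinearMap.map_smul_univ]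
    exact Submodule.smul_mem _ _ (Submodule.subset_span ⟨g, rfl⟩)
  rw [injective_iff_map_eq_zero]
  intro t ht
  obtain ⟨a, rfl⟩ := (Submodule.mem_span_range_iff_exists_fun A).mp (htop ▸ Submodule.mem_top : t ∈ Submodule.span A (Set.range T))
  let deg : (ι → Fin c) → (Fin c →₀ ℕ) := fun g => ∑ i, Finsupp.single (g i) 1
  let P : MvPolynomial (Fin c) A := ∑ g, MvPolynomial.monomial (deg g) (a g)
  have hdeg : ∀ g, (deg g).degree = Fintype.card ι := fun g => by simp [deg, Finsupp.degree_single]
  have hP : P.IsHomogeneous (Fintype.card ι) :=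
    MvPolynomial.IsHomogeneous.sum _ _ _ fun g _ => MvPolynomial.isHomogeneous_monomial _ (hdeg g)
  have heval : MvPolynomial.eval f P = ∑ g, a g * ∏ i, f (g i) := by
    simp only [P, map_sum]
    refine Finset.sum_congr rfl fun g _ => ?_
    rw [show MvPolynomial.monomial (deg g) (a g) = MvPolynomial.C (a g) * ∏ i, MvPolynomial.X (g i) by
      rw [show (∏ i, MvPolynomial.X (g i) : MvPolynomial (Fin c) A) = MvPolynomial.monomial (deg g) 1 by
        rw [MvPolynomial.monomial_sum_one]; rfl, MvPolynomial.C_mul_monomial, mul_one]]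
    simp
  have hmem : MvPolynomial.eval f P ∈ J ^ (Fintype.card ι + 1) := by
    let y : ↥(J ^ Fintype.card ι) := ∑ g, a g • ⟨∏ i, f (g i), by
      simpa using PP16.prod_mem_pow J univ (fun i => f (g i)) (fun i _ => (fJ (g i)).2)⟩
    have hy : φ (∑ g, a g • T g) = Submodule.Quotient.mk y := by
      simp only [map_sum, map_smul, T, hφ]
      rw [show (Submodule.Quotient.mk y : PP16.grJ A J (Fintype.card ι)) = Submodule.mkQ _ y from rfl]
      simp only [y, map_sum, map_smul]
      rfl
    have h1 := hy.symm.trans ht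
    unfold PP16.grJ at h1
    have h2 := (Submodule.Quotient.mk_eq_zero _).mp h1
    have h3 : (y : A) ∈ J ^ (Fintype.card ι + 1) := h2
    rw [heval]
    simpa [y] using h3
  have hcoeff := hq _ P hP (by rw [hspan]; exact hmem)
  rw [hspan] at hcoeff
  rw [← Finset.sum_fiberwise_of_maps_to (g := deg) (t := univ.image deg) fun g _ => Finset.mem_image_of_mem _ (Finset.mem_univ g)]
  refine Finset.sum_eq_zero fun d hd => ?_
  obtain ⟨g0, -, rfl⟩ := Finset.mem_image.mp hd
  rw [Finset.sum_congr rfl fun g hg => by
    rw [show T g = T g0 from tprod_eq_of_count_eq (fun j => J.toCotangent (fJ j)) (Finset.mem_filter.mp hg).2],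
    ← Finset.sum_smul]
  refine smul_tprod_eq_zero J ?_ _
  have := hcoeff (deg g0)
  simpa [P, MvPolynomial.coeff_sum, MvPolynomial.coeff_monomial, Finset.sum_filter] using this

/-- Regular local rings satisfy the symmetric algebra condition. -/
theorem symGrBijective_of_isRegularLocalRing [IsRegularLocalRing A] : PP16.SymGrBijective A (maximalIdeal A) := by
  classical
  obtain ⟨s, hs, hspan⟩ := Submodule.FG.exists_span_set_encard_eq_spanFinrank (IsNoetherian.noetherian (maximalIdeal A))
  haveI : Finite s := Set.finite_of_encard_eq_coe hs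
  haveI : Fintype s := Fintype.ofFinite s
  let f : Fin (Fintype.card s) → A := fun i => ((Fintype.equivFin s).symm i : A)
  have hr : Set.range f = s := by
    ext x
    exact ⟨by rintro ⟨i, rfl⟩; exact ((Fintype.equivFin s).symm i).2,
      fun hx => ⟨Fintype.equivFin s ⟨x, hx⟩, by simp [f]⟩⟩
  have hf : ∀ i, f i ∈ maximalIdeal A := fun i => hspan.le (Submodule.subset_span ((Fintype.equivFin s).symm i).2)
  have hsp : Ideal.span (Set.range f) = maximalIdeal A := by rw [hr]; exact hspan
  have hcard : Fintype.card s = Module.finrank (ResidueField A) (CotangentSpace A) := by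
    rw [← spanFinrank_maximalIdeal_eq_finrank_cotangentSpace, ← ENat.coe_inj, ← hs, ← Set.coe_fintypeCard]
  have hlen : ∀ k : ℕ, Module.length A (A ⧸ maximalIdeal A ^ (k + 1)) = ((k + Fintype.card s).choose k : ℕ∞) := fun k => by
    rw [hcard]; exact (Groth.EGA41Two.GrLength.regular_iff.mp inferInstance) k
  refine symGrBijective_of_isQuasiRegular _ f hsp fun n => ?_
  exact (Groth.EGA41Two.GrLength.injective_Φ_iff f hf hsp n).mp
    ((Groth.EGA41Two.GrLength.length_eq_choose_iff f hf hsp).mp hlen n)

end Groth.Ega41SymGr
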