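import Groth.Agent.Ega41Adic.Differentials
import Groth.Agent.Ega41Adic.RegularOfSmooth
import Mathlib.Algebra.Module.Torsion.Basic
import Mathlib.RingTheory.Kaehler.Basic

/-! Descending adic formal smoothness along `Λ → A → B` by extension of derivations. -/

universe u

open TensorProduct KaehlerDifferential

namespace Groth.Ega41SymGr

open Groth.Ega41Adic

variable {Λ A B : Type u} [CommRing Λ] [CommRing A] [CommRing B] [Algebra Λ A] [Algebra A B] [Algebra Λ B]
  [IsScalarTower Λ A B] (J : Ideal B)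

/-- An injective first map and a projective cokernel give a retraction of the differentials modulo `J`. -/
theorem exists_retraction (hinj : Function.Injective ((mapBaseChange Λ A B).lTensor (B ⧸ J)))
    [Module.Projective (B ⧸ J) ((B ⧸ J) ⊗[B] (Ω[B⁄A]))] :
    ∃ r : (B ⧸ J) ⊗[B] Ω[B⁄Λ] →ₗ[B ⧸ J] (B ⧸ J) ⊗[B] (B ⊗[A] Ω[A⁄Λ]),
      ∀ z, r ((mapBaseChange Λ A B).baseChange (B ⧸ J) z) = z := by
  let u := (mapBaseChange Λ A B).baseChange (B ⧸ J)
  let g : (B ⧸ J) ⊗[B] Ω[B⁄Λ] →ₗ[B ⧸ J] (B ⧸ J) ⊗[B] Ω[B⁄A] := (KaehlerDifferential.map Λ A B B).baseChange (B ⧸ J)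
  have hu : Function.Injective u := by
    have : ⇑u = ⇑((mapBaseChange Λ A B).lTensor (B ⧸ J)) := LinearMap.baseChange_eq_ltensor ..
    rw [this]; exact hinj
  have hg : Function.Surjective g := by
    have : ⇑g = ⇑((KaehlerDifferential.map Λ A B B).lTensor (B ⧸ J)) := LinearMap.baseChange_eq_ltensor ..
    rw [this]; exact LinearMap.lTensor_surjective _ (KaehlerDifferential.map_surjective Λ A B)
  have hex : Function.Exact u g := by
    have h1 : ⇑u = ⇑((mapBaseChange Λ A B).lTensor (B ⧸ J)) := LinearMap.baseChange_eq_ltensor ..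
    have h2 : ⇑g = ⇑((KaehlerDifferential.map Λ A B B).lTensor (B ⧸ J)) := LinearMap.baseChange_eq_ltensor ..
    rw [h1, h2]
    exact lTensor_exact (B ⧸ J) (exact_mapBaseChange_map Λ A B) (KaehlerDifferential.map_surjective Λ A B)
  obtain ⟨σ, hσ⟩ := Module.projective_lifting_property g LinearMap.id hg
  let p : (B ⧸ J) ⊗[B] Ω[B⁄Λ] →ₗ[B ⧸ J] (B ⧸ J) ⊗[B] Ω[B⁄Λ] := LinearMap.id - σ ∘ₗ g
  have hp : ∀ y, p y ∈ LinearMap.range u := fun y => by
    refine (hex _).mp ?_
    show g (y - σ (g y)) = 0
    rw [map_sub, ← LinearMap.comp_apply g σ, hσ, LinearMap.id_apply, sub_self]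
  refine ⟨(LinearEquiv.ofInjective u hu).symm.toLinearMap ∘ₗ p.codRestrict (LinearMap.range u) hp, fun z => ?_⟩
  apply (LinearEquiv.ofInjective u hu).injective
  refine ((LinearEquiv.ofInjective u hu).apply_symm_apply _).trans (Subtype.ext ?_)
  show u z - σ (g (u z)) = u z
  rw [(hex (u z)).mpr ⟨z, rfl⟩, map_zero, sub_zero]

/-- Derivations lift along surjections of modules killed by a power of `J`. -/
theorem exists_derivation_lift (h : CAlgX.IsAdicFormallySmooth Λ B J) {k : ℕ} {M N : Type u} [AddCommGroup M]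
    [AddCommGroup N] [Module B M] [Module B N] [Module Λ M] [Module Λ N] [IsScalarTower Λ B M] [IsScalarTower Λ B N]
    (g : M →ₗ[B] N) (hg : Function.Surjective g) (hM : ∀ x ∈ J ^ k, ∀ m : M, x • m = 0)
    (d : Derivation Λ B N) : ∃ d' : Derivation Λ B M, ∀ b, g (d' b) = d b := by
  have hN : ∀ x ∈ J ^ k, ∀ m : N, x • m = 0 := fun x hx m => by
    obtain ⟨m, rfl⟩ := hg m
    rw [← map_smul, hM x hx, map_zero]
  letI : Module (B ⧸ J ^ k) M := Module.IsTorsionBySet.module (fun m x => hM x x.2 m)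
  letI : Module (B ⧸ J ^ k) N := Module.IsTorsionBySet.module (fun m x => hN x x.2 m)
  haveI : IsScalarTower B (B ⧸ J ^ k) M := Module.IsTorsionBySet.isScalarTower _
  haveI : IsScalarTower B (B ⧸ J ^ k) N := Module.IsTorsionBySet.isScalarTower _
  let g' := g.extendScalarsOfSurjective (S := B ⧸ J ^ k) Ideal.Quotient.mk_surjective
  obtain ⟨w, hw⟩ := exists_linearMap_comp_eq_of_isFormallySmoothAdic (isAdicFormallySmooth_iff.mp h)
    ⟨1, by simp⟩ (J ^ k) ⟨k, le_rfl⟩ g' hg (d.liftKaehlerDifferential.liftBaseChange (B ⧸ J ^ k))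
  refine ⟨((w.restrictScalars B) ∘ₗ TensorProduct.mk B (B ⧸ J ^ k) Ω[B⁄Λ] 1).compDer (KaehlerDifferential.D Λ B), fun b => ?_⟩
  show g' (w ((1 : B ⧸ J ^ k) ⊗ₜ KaehlerDifferential.D Λ B b)) = d b
  rw [← LinearMap.comp_apply g' w, hw, LinearMap.liftBaseChange_tmul, one_smul, Derivation.liftKaehlerDifferential_comp_D]

/-- Derivations of `A` into modules killed by a power of `J` extend to `B`. -/
theorem exists_derivation_extension (h : CAlgX.IsAdicFormallySmooth Λ B J)
    (r : (B ⧸ J) ⊗[B] Ω[B⁄Λ] →ₗ[B ⧸ J] (B ⧸ J) ⊗[B] (B ⊗[A] Ω[A⁄Λ]))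
    (hr : ∀ z, r ((mapBaseChange Λ A B).baseChange (B ⧸ J) z) = z) (k : ℕ) :
    ∀ (M : Type u) [AddCommGroup M] [Module B M] [Module A M] [Module Λ M] [IsScalarTower A B M]
      [IsScalarTower Λ B M] [IsScalarTower Λ A M], (∀ x ∈ J ^ k, ∀ m : M, x • m = 0) →
      ∀ D : Derivation Λ A M, ∃ D' : Derivation Λ B M, ∀ a, D' (algebraMap A B a) = D a := by
  induction k with
  | zero =>
    intro M _ _ _ _ _ _ _ hM D
    exact ⟨0, fun a => (show (0 : M) = _ by rw [← one_smul B (D a), hM 1 (by simp)])⟩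
  | succ k ih =>
    intro M _ _ _ _ _ _ _ hM D
    let S : Submodule B M := J • ⊤
    let ℓ : (B ⧸ J) ⊗[B] (B ⊗[A] Ω[A⁄Λ]) →ₗ[B ⧸ J] M ⧸ S :=
      ((((S.mkQ).restrictScalars A).compDer D).liftKaehlerDifferential.liftBaseChange B).liftBaseChange (B ⧸ J)
    let dbar : Derivation Λ B (M ⧸ S) :=
      (((ℓ ∘ₗ r).restrictScalars B) ∘ₗ TensorProduct.mk B (B ⧸ J) Ω[B⁄Λ] 1).compDer (KaehlerDifferential.D Λ B)
    have hdbar : ∀ a, dbar (algebraMap A B a) = S.mkQ (D a) := fun a => by
      show ℓ (r ((1 : B ⧸ J) ⊗ₜ KaehlerDifferential.D Λ B (algebraMap A B a))) = _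
      have h1 : (mapBaseChange Λ A B).baseChange (B ⧸ J) ((1 : B ⧸ J) ⊗ₜ ((1 : B) ⊗ₜ KaehlerDifferential.D Λ A a)) =
          (1 : B ⧸ J) ⊗ₜ KaehlerDifferential.D Λ B (algebraMap A B a) := by
        rw [LinearMap.baseChange_tmul, mapBaseChange_tmul, one_smul, KaehlerDifferential.map_D]
      rw [← h1, hr, LinearMap.liftBaseChange_tmul, one_smul, LinearMap.liftBaseChange_tmul, one_smul,
        Derivation.liftKaehlerDifferential_comp_D]
      rfl
    obtain ⟨d1, hd1⟩ := exists_derivation_lift J h (k := k + 1) S.mkQ (Submodule.mkQ_surjective S) hM dbar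
    let D2 : Derivation Λ A S := Derivation.mk'
      { toFun := fun a => ⟨D a - d1 (algebraMap A B a), (Submodule.Quotient.eq S).mp (by
          exact ((hd1 (algebraMap A B a)).trans (hdbar a)).symm)⟩
        map_add' := fun a b => Subtype.ext (by simp [map_add, add_sub_add_comm])
        map_smul' := fun c a => Subtype.ext (by
          simp only [RingHom.id_apply, Submodule.coe_smul_of_tower, smul_sub]
          rw [D.map_smul, show algebraMap A B (c • a) = c • algebraMap A B a from map_smul (IsScalarTower.toAlgHom Λ A B) c a,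
            d1.map_smul]) }
      (fun a b => Subtype.ext (by
        show D (a * b) - d1 (algebraMap A B (a * b)) = a • (D b - d1 (algebraMap A B b)) + b • (D a - d1 (algebraMap A B a))
        rw [map_mul (algebraMap A B), Derivation.leibniz, Derivation.leibniz, algebraMap_smul, algebraMap_smul, smul_sub, smul_sub]
        abel))
    obtain ⟨d2, hd2⟩ := ih S (fun x hx m => Subtype.ext (by
      show x • (m : M) = 0
      refine Submodule.smul_induction_on (p := fun y => x • y = 0) m.2 (fun y hy n _ => ?_) (fun a b ha hb => ?_)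
      · rw [smul_smul]
        exact hM _ (by rw [pow_succ]; exact Ideal.mul_mem_mul hx hy) n
      · rw [smul_add, ha, hb, add_zero])) D2
    refine ⟨d1 + S.subtype.compDer d2, fun a => ?_⟩
    show d1 (algebraMap A B a) + (d2 (algebraMap A B a) : M) = D a
    rw [hd2]
    exact add_sub_cancel _ _

/-- Formal smoothness over `Λ`, plus split injectivity of differentials mod `J`, gives it over `A`. -/
theorem isAdicFormallySmooth_of_injective (h : CAlgX.IsAdicFormallySmooth Λ B J)
    (hinj : Function.Injective ((mapBaseChange Λ A B).lTensor (B ⧸ J)))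
    [Module.Projective (B ⧸ J) ((B ⧸ J) ⊗[B] (Ω[B⁄A]))] : CAlgX.IsAdicFormallySmooth A B J := by
  obtain ⟨r, hr⟩ := exists_retraction J hinj
  intro E _ _ I hI ψ ⟨k, hk⟩
  letI : Algebra Λ E := ((algebraMap A E).comp (algebraMap Λ A)).toAlgebra
  haveI : IsScalarTower Λ A E := IsScalarTower.of_algebraMap_eq fun _ => rfl
  obtain ⟨v, hv⟩ := h E I hI (ψ.restrictScalars Λ) ⟨k, hk⟩
  have hv' : ∀ b, Ideal.Quotient.mk I (v b) = ψ b := fun b => AlgHom.congr_fun hv b
  have hsq : ∀ x ∈ I, ∀ y ∈ I, x * y = 0 := fun x hx y hy => by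
    rw [← Ideal.mem_bot, ← hI, sq]; exact Ideal.mul_mem_mul hx hy
  have hD : ∀ a, algebraMap A E a - v (algebraMap A B a) ∈ I := fun a => by
    rw [← Ideal.Quotient.eq_zero_iff_mem, map_sub, hv', ψ.commutes]
    exact sub_self _
  letI : Module B I := Module.compHom I v.toRingHom
  have hsmul : ∀ (b : B) (m : I), ((b • m : I) : E) = v b * m := fun _ _ => rfl
  haveI : IsScalarTower A B I := IsScalarTower.of_algebraMap_smul fun a m => Subtype.ext (by
    rw [hsmul, Submodule.coe_smul_of_tower, Algebra.smul_def, eq_comm, ← sub_eq_zero, ← sub_mul]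
    exact hsq _ (hD a) _ m.2)
  haveI : IsScalarTower Λ B I := IsScalarTower.of_algebraMap_smul fun c m => Subtype.ext (by
    rw [hsmul, v.commutes, Submodule.coe_smul_of_tower, Algebra.smul_def])
  haveI : IsScalarTower Λ A I := IsScalarTower.of_algebraMap_smul fun c m => Subtype.ext (by
    rw [Submodule.coe_smul_of_tower, Submodule.coe_smul_of_tower, algebraMap_smul])
  let D : Derivation Λ A I := Derivation.mk'
    { toFun := fun a => ⟨algebraMap A E a - v (algebraMap A B a), hD a⟩
      map_add' := fun a b => Subtype.ext (by simp [map_add, add_sub_add_comm])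
      map_smul' := fun c a => Subtype.ext (by
        simp only [RingHom.id_apply, Submodule.coe_smul_of_tower, Algebra.smul_def, map_mul,
          ← IsScalarTower.algebraMap_apply, v.commutes, mul_sub]) }
    (fun a b => Subtype.ext (by
      show algebraMap A E (a * b) - v (algebraMap A B (a * b)) =
        a • (algebraMap A E b - v (algebraMap A B b)) + b • (algebraMap A E a - v (algebraMap A B a))
      rw [Algebra.smul_def, Algebra.smul_def, map_mul, map_mul, map_mul]
      linear_combination -(hsq _ (hD a) _ (hD b))))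
  obtain ⟨D', hD'⟩ := exists_derivation_extension J h r hr k I (fun x hx m => Subtype.ext (by
    rw [hsmul]
    exact hsq _ (Ideal.Quotient.eq_zero_iff_mem.mp ((hv' x).trans (hk x hx))) _ m.2)) D
  refine ⟨{ toFun := fun b => v b + (D' b : E)
            map_one' := by simp
            map_mul' := fun a b => ?_
            map_zero' := by simp
            map_add' := fun a b => by simp only [map_add, Submodule.coe_add]; abel
            commutes' := fun a => ?_ }, AlgHom.ext fun b => ?_⟩
  · rw [map_mul, Derivation.leibniz, Submodule.coe_add, hsmul, hsmul]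
    linear_combination -(hsq _ (D' a).2 _ (D' b).2)
  · show v (algebraMap A B a) + (D' (algebraMap A B a) : E) = algebraMap A E a
    rw [hD']
    exact add_sub_cancel _ _
  · show Ideal.Quotient.mk I (v b + (D' b : E)) = ψ b
    rw [map_add, hv', Ideal.Quotient.eq_zero_iff_mem.mpr (D' b).2, add_zero]

/-- Conversely the differentials inject split modulo `J`. -/
theorem injective_lTensor_mapBaseChange (h : CAlgX.IsAdicFormallySmooth A B J) :
    Function.Injective ((mapBaseChange Λ A B).lTensor (B ⧸ J)) := by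
  let M := (B ⧸ J) ⊗[B] (B ⊗[A] Ω[A⁄Λ])
  let C := TrivSqZeroExt (B ⧸ J) M
  let d0 : Derivation Λ A M :=
    (((TensorProduct.mk B (B ⧸ J) (B ⊗[A] Ω[A⁄Λ]) 1).restrictScalars A) ∘ₗ
      TensorProduct.mk A B Ω[A⁄Λ] 1).compDer (KaehlerDifferential.D Λ A)
  let φ : A →+* TrivSqZeroExt (B ⧸ J) M :=
    { toFun := fun a => TrivSqZeroExt.inl (algebraMap A (B ⧸ J) a) + TrivSqZeroExt.inr (d0 a)
      map_one' := by ext <;> simp
      map_mul' := fun a b => by
        ext
        · simp
        · simp only [TrivSqZeroExt.snd_add, TrivSqZeroExt.snd_inl, TrivSqZeroExt.snd_inr, TrivSqZeroExt.snd_mul,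
            TrivSqZeroExt.fst_add, TrivSqZeroExt.fst_inl, TrivSqZeroExt.fst_inr, zero_add, add_zero,
            op_smul_eq_smul, Derivation.leibniz, algebraMap_smul]
      map_zero' := by ext <;> simp
      map_add' := fun a b => by ext <;> simp [add_assoc] }
  letI : Algebra A (TrivSqZeroExt (B ⧸ J) M) := φ.toAlgebra
  let π : TrivSqZeroExt (B ⧸ J) M →ₐ[A] B ⧸ J :=
    { (TrivSqZeroExt.fstHom (B ⧸ J) (B ⧸ J) M).toRingHom with
      commutes' := fun a => by
        show (φ a).fst = _
        simp [φ] }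
  have hπ : Function.Surjective π := fun y => ⟨TrivSqZeroExt.inl y, by simp [π]⟩
  have hsq : (RingHom.ker π.toRingHom) ^ 2 = ⊥ := by
    rw [eq_bot_iff, sq, Ideal.mul_le]
    intro a ha b hb
    have ha' : a.fst = 0 := ha
    have hb' : b.fst = 0 := hb
    rw [Ideal.mem_bot]
    ext <;> simp [ha', hb']
  let e := Ideal.quotientKerAlgEquivOfSurjective hπ
  obtain ⟨v, hv⟩ := h (TrivSqZeroExt (B ⧸ J) M) (RingHom.ker π.toRingHom) hsq
    (e.symm.toAlgHom.comp (Ideal.Quotient.mkₐ A J)) ⟨1, fun x hx => by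
      rw [pow_one] at hx
      exact (congrArg e.symm (Ideal.Quotient.eq_zero_iff_mem.mpr hx)).trans (map_zero e.symm)⟩
  have hfst : ∀ b, (v b).fst = Ideal.Quotient.mk J b := fun b => by
    have h1 := congrArg e (AlgHom.congr_fun hv b)
    exact h1.trans (e.apply_symm_apply _)
  have halg : ∀ c : Λ, v (algebraMap Λ B c) = φ (algebraMap Λ A c) := fun c => by
    rw [IsScalarTower.algebraMap_apply Λ A B]; exact v.commutes _
  let d' : Derivation Λ B M := Derivation.mk'
    { toFun := fun b => (v b).snd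
      map_add' := fun a b => by simp
      map_smul' := fun c b => by
        rw [Algebra.smul_def, map_mul, TrivSqZeroExt.snd_mul, halg, RingHom.id_apply]
        show (φ (algebraMap Λ A c)).fst • (v b).snd + _ = _
        simp [φ, ← IsScalarTower.algebraMap_apply] }
    (fun a b => by
      show (v (a * b)).snd = a • (v b).snd + b • (v a).snd
      rw [map_mul, TrivSqZeroExt.snd_mul, op_smul_eq_smul, hfst, hfst]
      rfl)
  let r := d'.liftKaehlerDifferential.liftBaseChange (B ⧸ J)
  have hr : (r.restrictScalars B) ∘ₗ (mapBaseChange Λ A B).lTensor (B ⧸ J) = LinearMap.id := by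
    refine TensorProduct.ext' fun c y => ?_
    show r (c ⊗ₜ mapBaseChange Λ A B y) = c ⊗ₜ y
    rw [LinearMap.liftBaseChange_tmul]
    have key : d'.liftKaehlerDifferential ∘ₗ mapBaseChange Λ A B = TensorProduct.mk B (B ⧸ J) (B ⊗[A] Ω[A⁄Λ]) 1 := by
      refine TensorProduct.AlgebraTensorModule.ext fun b ω => ?_
      induction (show ω ∈ Submodule.span A (Set.range (KaehlerDifferential.D Λ A)) by
          rw [KaehlerDifferential.span_range_derivation]; trivial) using Submodule.span_induction with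
      | mem x hx =>
        obtain ⟨a, rfl⟩ := hx
        rw [LinearMap.comp_apply, mapBaseChange_tmul, map_smul, KaehlerDifferential.map_D, Derivation.liftKaehlerDifferential_comp_D,
          show d' (algebraMap A B a) = (v (algebraMap A B a)).snd from rfl, v.commutes]
        show b • (φ a).snd = (1 : B ⧸ J) ⊗ₜ (b ⊗ₜ KaehlerDifferential.D Λ A a)
        rw [show b ⊗ₜ[A] KaehlerDifferential.D Λ A a = b • ((1 : B) ⊗ₜ[A] KaehlerDifferential.D Λ A a) by
          rw [TensorProduct.smul_tmul', smul_eq_mul, mul_one], TensorProduct.tmul_smul]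
        simp [φ, d0]
      | zero => simp
      | add x y _ _ hx hy => rw [tmul_add, map_add, map_add, hx, hy]
      | smul c x _ hx => rw [tmul_smul, LinearMap.map_smul_of_tower, LinearMap.map_smul_of_tower, hx]
    have h2 : d'.liftKaehlerDifferential (mapBaseChange Λ A B y) = (1 : B ⧸ J) ⊗ₜ y := LinearMap.congr_fun key y
    rw [h2, TensorProduct.smul_tmul', smul_eq_mul, mul_one]
  exact Function.LeftInverse.injective (g := r) fun z => LinearMap.congr_fun hr z

end Groth.Ega41SymGr
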