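import Groth.Agent.Ega41SymGr.Criterion
import Groth.Agent.Ega41SymGr.Relative

/-! Adic formal smoothness of local algebras over a field, with absolute differentials. -/

universe u

open TensorProduct KaehlerDifferential IsLocalRing

namespace Groth.Ega41SymGr

open Groth.Ega41Adic Groth.Ega41Sep

/-- A prime field killed by the absolute differential. -/
theorem exists_primeField_D (k : Type u) [Field k] :
    ∃ (F : Type u) (_ : Field F) (_ : Algebra F k), Algebra.FormallySmooth F k ∧
      (∀ x : F, D ℤ k (algebraMap F k x) = 0) ∧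
      ∀ (K : Type u) [Field K] [Algebra k K] [Algebra F K] [IsScalarTower F k K], Algebra.FormallySmooth F K := by
  obtain h | ⟨p, hp, hpk⟩ := CharP.exists' k
  · letI : Algebra (ULift.{u} ℚ) k := ((algebraMap ℚ k).comp ULift.ringEquiv.toRingHom).toAlgebra
    haveI : CharZero (ULift.{u} ℚ) := charZero_of_injective_ringHom
      (f := (ULift.ringEquiv.symm.toRingHom : ℚ →+* ULift.{u} ℚ)) (RingEquiv.injective _)
    refine ⟨ULift.{u} ℚ, inferInstance, inferInstance, formallySmooth_charZero _ k, fun x => D_int_rat x.down, ?_⟩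
    intro K _ _ _ _
    exact formallySmooth_charZero _ K
  · haveI := hp
    letI := zmodUAlgebra p k
    haveI : Fact p.Prime := hp
    letI : Field (ZModU.{u} p) := inferInstance
    refine ⟨ZModU.{u} p, inferInstance, inferInstance, formallySmooth_zmodU p k, fun x => D_int_zmodU p x, ?_⟩
    intro K _ _ _ _
    haveI : CharP K p := charP_of_injective_algebraMap (algebraMap k K).injective p
    exact formallySmooth_zmodU p K

theorem map_int_injective (F B : Type u) [CommRing F] [CommRing B] [Algebra F B]
    (hF : ∀ x : F, D ℤ B (algebraMap F B x) = 0) : Function.Injective (KaehlerDifferential.map ℤ F B B) := by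
  rw [← LinearMap.ker_eq_bot, ← range_mapBaseChange, LinearMap.range_eq_bot]
  refine TensorProduct.AlgebraTensorModule.ext fun b ω => ?_
  induction (show ω ∈ Submodule.span F (Set.range (D ℤ F)) by
      rw [span_range_derivation]; trivial) using Submodule.span_induction with
  | mem x hx =>
    obtain ⟨a, rfl⟩ := hx
    rw [mapBaseChange_tmul, KaehlerDifferential.map_D, hF, smul_zero, LinearMap.zero_apply]
  | zero => simp
  | add x y _ _ hx hy => rw [tmul_add, map_add, map_add, hx, hy]
  | smul c x _ hx => rw [tmul_smul, LinearMap.map_smul_of_tower, LinearMap.map_smul_of_tower, hx]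

variable {F k A : Type u} [Field F] [Field k] [CommRing A] [IsLocalRing A] [Algebra F k] [Algebra k A]
  [Algebra F A] [IsScalarTower F k A]

theorem lTensor_injective_iff (hF : ∀ x : F, D ℤ k (algebraMap F k x) = 0) :
    Function.Injective ((mapBaseChange F k A).lTensor (ResidueField A)) ↔
      Function.Injective ((mapBaseChange ℤ k A).lTensor (ResidueField A)) := by
  have hA : ∀ x : F, D ℤ A (algebraMap F A x) = 0 := fun x => by
    rw [IsScalarTower.algebraMap_apply F k A, ← KaehlerDifferential.map_D ℤ ℤ k A, hF, map_zero]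
  let ι : Ω[k⁄ℤ] ≃ₗ[k] Ω[k⁄F] := LinearEquiv.ofBijective (KaehlerDifferential.map ℤ F k k)
    ⟨map_int_injective F k hF, KaehlerDifferential.map_surjective ℤ F k⟩
  let ιA : Ω[A⁄ℤ] ≃ₗ[A] Ω[A⁄F] := LinearEquiv.ofBijective (KaehlerDifferential.map ℤ F A A)
    ⟨map_int_injective F A hA, KaehlerDifferential.map_surjective ℤ F A⟩
  have hsq : ιA.toLinearMap ∘ₗ mapBaseChange ℤ k A = mapBaseChange F k A ∘ₗ ι.toLinearMap.baseChange A := by
    refine TensorProduct.AlgebraTensorModule.ext fun a ω => ?_
    induction (show ω ∈ Submodule.span k (Set.range (D ℤ k)) by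
        rw [span_range_derivation]; trivial) using Submodule.span_induction with
    | mem x hx =>
      obtain ⟨c, rfl⟩ := hx
      simp only [LinearMap.comp_apply, LinearMap.baseChange_tmul, mapBaseChange_tmul, map_smul, KaehlerDifferential.map_D]
      show a • KaehlerDifferential.map ℤ F A A (D ℤ A (algebraMap k A c)) =
        a • KaehlerDifferential.map F F k A (KaehlerDifferential.map ℤ F k k (D ℤ k c))
      simp
    | zero => simp
    | add x y _ _ hx hy => rw [tmul_add, map_add, map_add, hx, hy]
    | smul c x _ hx => rw [tmul_smul, LinearMap.map_smul_of_tower, LinearMap.map_smul_of_tower, hx]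
  let e1 := LinearEquiv.lTensor (ResidueField A) (ι.baseChange k A _ _)
  let e2 := LinearEquiv.lTensor (ResidueField A) ιA
  have h : e2.toLinearMap ∘ₗ (mapBaseChange ℤ k A).lTensor (ResidueField A) =
      (mapBaseChange F k A).lTensor (ResidueField A) ∘ₗ e1.toLinearMap := by
    show ιA.toLinearMap.lTensor _ ∘ₗ _ = _ ∘ₗ (ι.toLinearMap.baseChange A).lTensor _
    rw [← LinearMap.lTensor_comp, ← LinearMap.lTensor_comp, hsq]
  have h' : ∀ z, e2 ((mapBaseChange ℤ k A).lTensor (ResidueField A) z) =
      (mapBaseChange F k A).lTensor (ResidueField A) (e1 z) := fun z => LinearMap.congr_fun h z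
  refine ⟨fun hinj x y hxy => e1.injective (hinj ?_), fun hinj x y hxy => ?_⟩
  · rw [← h', ← h', hxy]
  · obtain ⟨x, rfl⟩ := e1.surjective x
    obtain ⟨y, rfl⟩ := e1.surjective y
    rw [← h', ← h'] at hxy
    rw [hinj (e2.injective hxy)]

/-- Formal smoothness over a field of a local algebra. -/
theorem isAdicFormallySmooth_field_iff {k A : Type u} [Field k] [CommRing A] [IsLocalRing A] [Algebra k A] :
    CAlgX.IsAdicFormallySmooth k A (maximalIdeal A) ↔
      (PP16.SymGrBijective A (maximalIdeal A) ∧
        Function.Injective ((mapBaseChange ℤ k A).lTensor (ResidueField A))) := by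
  obtain ⟨F, _, _, hFk, hD, hFK⟩ := exists_primeField_D k
  letI : Algebra F A := ((algebraMap k A).comp (algebraMap F k)).toAlgebra
  haveI : IsScalarTower F k A := IsScalarTower.of_algebraMap_eq fun _ => rfl
  haveI : IsScalarTower F k (ResidueField A) := IsScalarTower.of_algebraMap_eq fun x => by
    rw [IsScalarTower.algebraMap_apply F A (ResidueField A), IsScalarTower.algebraMap_apply k A (ResidueField A)]
    rfl
  haveI : Algebra.FormallySmooth F (A ⧸ maximalIdeal A) := hFK (ResidueField A)
  haveI hproj : ∀ (N : Type u) [AddCommGroup N] [Module (A ⧸ maximalIdeal A) N],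
      Module.Projective (A ⧸ maximalIdeal A) N := fun N _ _ => by
    letI : Field (A ⧸ maximalIdeal A) := Ideal.Quotient.field _
    exact Module.Projective.of_free
  constructor
  · intro h
    have h' : CAlgX.IsAdicFormallySmooth F A (maximalIdeal A) := isAdicFormallySmooth_iff.mpr
      (trans' (B := k) (C := A) (𝔟 := ⊥) ⟨1, by simp⟩ isFormallySmoothAdic_bot_of_formallySmooth
        (isAdicFormallySmooth_iff.mp h))
    exact ⟨symGrBijective (maximalIdeal A) h', (lTensor_injective_iff (A := A) hD).mp (injective_lTensor_mapBaseChange (Λ := F) (maximalIdeal A) h)⟩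
  · rintro ⟨h1, h2⟩
    haveI := hproj (maximalIdeal A).Cotangent
    haveI := hproj ((A ⧸ maximalIdeal A) ⊗[A] Ω[A⁄k])
    exact isAdicFormallySmooth_of_injective (maximalIdeal A) (isAdicFormallySmooth_of_symGr _ h1)
      ((lTensor_injective_iff (A := A) hD).mpr h2)

end Groth.Ega41SymGr
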