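import Mathlib.LinearAlgebra.TensorPower.Symmetric
import Mathlib.LinearAlgebra.Multilinear.Basis
import Mathlib.RingTheory.MvPolynomial.Homogeneous
import Mathlib.Algebra.Module.Torsion.Basic
import Mathlib.Data.Finsupp.Multiset
import Mathlib.RingTheory.Ideal.Quotient.Operations

/-! Symmetric powers: universal property and comparison with homogeneous polynomials. -/

universe u v

open TensorProduct Finset

namespace Groth.Ega41SymGr

variable {B : Type u} [CommRing B] {ι : Type u} {N : Type v} [AddCommGroup N] [Module B N]
  {M : Type*} [AddCommGroup M] [Module B M]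

/-- The linear map on a symmetric power attached to a symmetric multilinear map. -/
noncomputable def symLift (g : MultilinearMap B (fun _ : ι => N) M)
    (hg : ∀ (e : Equiv.Perm ι) (f : ι → N), g (fun i => f (e i)) = g f) :
    SymmetricPower B ι N →ₗ[B] M where
  toFun := AddCon.lift _ (PiTensorProduct.lift g).toAddMonoidHom (AddCon.addConGen_le.2 (by
    intro x y hxy
    cases hxy with
    | perm e f =>
      rw [AddCon.ker_rel]
      simp only [LinearMap.toAddMonoidHom_coe, PiTensorProduct.lift.tprod]
      exact (hg e f).symm))
  map_add' x y := map_add _ x y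
  map_smul' r x := by
    induction x using AddCon.induction_on with
    | H x => exact map_smul (PiTensorProduct.lift g) r x

theorem symLift_tprod (g : MultilinearMap B (fun _ : ι => N) M)
    (hg : ∀ (e : Equiv.Perm ι) (f : ι → N), g (fun i => f (e i)) = g f) (f : ι → N) :
    symLift g hg (SymmetricPower.tprod B f) = g f :=
  PiTensorProduct.lift.tprod f

theorem symPower_ext {f g : SymmetricPower B ι N →ₗ[B] M}
    (h : ∀ x, f (SymmetricPower.tprod B x) = g (SymmetricPower.tprod B x)) : f = g :=
  LinearMap.ext_on (SymmetricPower.span_tprod_eq_top B ι N) (by rintro _ ⟨x, rfl⟩; exact h x)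

theorem tprod_eq_of_count_eq [Fintype ι] {α : Type*} (v : α → N) {g g' : ι → α}
    (h : ∑ i, Finsupp.single (g i) 1 = ∑ i, Finsupp.single (g' i) (1 : ℕ)) :
    SymmetricPower.tprod B (fun i => v (g i)) = SymmetricPower.tprod B (fun i => v (g' i)) := by
  classical
  have hc : ∀ a, Fintype.card {i // g i = a} = Fintype.card {i // g' i = a} := fun a => by
    have := DFunLike.congr_fun h a
    simp only [Finsupp.coe_finsetSum, Finset.sum_apply, Finsupp.single_apply] at this
    rw [Fintype.card_subtype, Fintype.card_subtype, Finset.card_filter, Finset.card_filter]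
    exact this
  let e : Equiv.Perm ι := Equiv.ofFiberEquiv fun a => Fintype.equivOfCardEq (hc a)
  rw [← SymmetricPower.tprod_equiv e fun i => v (g' i)]
  congr 1
  funext i
  rw [show g' (e i) = g i from Equiv.ofFiberEquiv_map _ i]

theorem exists_sum_single_eq [Fintype ι] {α : Type*} (d : α →₀ ℕ) (h : d.degree = Fintype.card ι) :
    ∃ g : ι → α, ∑ i, Finsupp.single (g i) 1 = d := by
  classical
  let l := d.toMultiset.toList
  have hl : l.length = Fintype.card ι := by
    rw [Multiset.length_toList, Finsupp.card_toMultiset, ← h, Finsupp.degree_apply]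
    rfl
  let e : ι ≃ Fin l.length := (Fintype.equivFin ι).trans (finCongr hl.symm)
  refine ⟨fun i => l.get (e i), ?_⟩
  rw [e.sum_comp (fun j => Finsupp.single (l.get j) 1)]
  have hinj : Function.Injective (Finsupp.toMultiset : (α →₀ ℕ) → Multiset α) := fun x y hxy => by
    ext a
    rw [← Finsupp.count_toMultiset, hxy, Finsupp.count_toMultiset]
  apply hinj
  rw [map_sum]
  simp only [Finsupp.toMultiset_single, one_smul]
  calc ∑ j : Fin l.length, ({l.get j} : Multiset α)
      = (((Finset.univ : Finset (Fin l.length)).val.map l.get).map fun x => ({x} : Multiset α)).sum := by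
        rw [Multiset.map_map]; rfl
    _ = d.toMultiset := by
        rw [Multiset.sum_map_singleton, Fin.univ_val_map, List.ofFn_get]
        exact Multiset.coe_toList _

section Polynomial

variable [Fintype ι] {C : Type u} [CommRing C] [Algebra B C] [Module C N] [IsScalarTower B C N]

/-- Products of linear forms are injective on the symmetric power of a projective module. -/
theorem injective_of_split (hB : Function.Surjective (algebraMap B C)) [Nonempty ι]
    (s : N →ₗ[C] (N →₀ C)) (hs : Finsupp.linearCombination C id ∘ₗ s = LinearMap.id)
    (θ : SymmetricPower B ι N →ₗ[B] MvPolynomial N C)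
    (hθ : ∀ x, θ (SymmetricPower.tprod B x) = ∏ i, Finsupp.linearCombination C MvPolynomial.X (s (x i))) :
    Function.Injective θ := by
  classical
  have htors : Module.IsTorsionBySet B (SymmetricPower B ι N) (RingHom.ker (algebraMap B C) : Set B) := by
    intro t a
    induction (show t ∈ Submodule.span B (Set.range (SymmetricPower.tprod B (ι := ι) (M := N))) by
      rw [SymmetricPower.span_tprod_eq_top]; trivial) using Submodule.span_induction with
    | mem y hy =>
      obtain ⟨x, rfl⟩ := hy
      obtain ⟨i⟩ := ‹Nonempty ι›
      rw [← Function.update_eq_self i x, ← MultilinearMap.map_update_smul, ← algebraMap_smul C (a : B) (x i),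
        show algebraMap B C a = 0 from a.2, zero_smul, MultilinearMap.map_update_zero]
    | zero => exact smul_zero _
    | add y z _ _ hy hz => rw [smul_add, hy, hz, add_zero]
    | smul c y _ hy => rw [smul_comm, hy, smul_zero]
  letI := htors.module
  letI : Module C (SymmetricPower B ι N) :=
    Module.compHom _ (RingHom.quotientKerEquivOfSurjective hB).symm.toRingHom
  haveI : IsScalarTower B C (SymmetricPower B ι N) := IsScalarTower.of_algebraMap_smul fun b t => by
    show (RingHom.quotientKerEquivOfSurjective hB).symm (algebraMap B C b) • t = b • t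
    rw [show (RingHom.quotientKerEquivOfSurjective hB).symm (algebraMap B C b) = Ideal.Quotient.mk _ b from
      (RingEquiv.symm_apply_eq _).mpr rfl]
    rfl
  let pick : (N →₀ ℕ) → SymmetricPower B ι N := fun d =>
    if h : d.degree = Fintype.card ι then SymmetricPower.tprod B (exists_sum_single_eq d h).choose else 0
  let χ : MvPolynomial N C →ₗ[C] SymmetricPower B ι N := (MvPolynomial.basisMonomials N C).constr C pick
  have hχ : ∀ g : ι → N, χ (∏ i, MvPolynomial.X (g i)) = SymmetricPower.tprod B g := by
    intro g
    have hd : (∑ i, Finsupp.single (g i) (1 : ℕ)).degree = Fintype.card ι := by simp [map_sum]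
    rw [show (∏ i, MvPolynomial.X (g i) : MvPolynomial N C) =
      MvPolynomial.basisMonomials N C (∑ i, Finsupp.single (g i) 1) by
        simp only [MvPolynomial.coe_basisMonomials]; rw [MvPolynomial.monomial_sum_one]; rfl,
      Module.Basis.constr_basis]
    simp only [pick, dif_pos hd]
    exact tprod_eq_of_count_eq id (exists_sum_single_eq _ hd).choose_spec
  refine Function.LeftInverse.injective (g := χ.restrictScalars B) fun t => ?_
  have hid : χ.restrictScalars B ∘ₗ θ = LinearMap.id := symPower_ext fun x => by
    rw [LinearMap.comp_apply, hθ, LinearMap.restrictScalars_apply, LinearMap.id_apply]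
    choose b hb using fun c : C => hB c
    simp only [Finsupp.linearCombination_apply, Finsupp.sum]
    rw [Finset.prod_univ_sum, map_sum]
    conv_rhs => rw [show x = fun i => ∑ y ∈ (s (x i)).support, b (s (x i) y) • y from funext fun i => by
      conv_lhs => rw [← LinearMap.id_apply (R := C) (x i), ← hs, LinearMap.comp_apply, Finsupp.linearCombination_apply, Finsupp.sum]
      exact Finset.sum_congr rfl fun y _ => by rw [← algebraMap_smul C (b _) y, hb]; rfl,
      MultilinearMap.map_sum_finset]
    refine Finset.sum_congr rfl fun g _ => ?_
    rw [MultilinearMap.map_smul_univ, ← hχ, Finset.prod_smul, map_smul, ← algebraMap_smul C (∏ i, b _), map_prod (algebraMap B C)]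
    simp only [hb]
  exact LinearMap.congr_fun hid t

end Polynomial

end Groth.Ega41SymGr
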