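import Groth.Prelude.Def_PP16
import Groth.Prelude.Def_CAlgX
import Groth.Agent.Ega41SymGr.SymPower
import Groth.Agent.Ega41Adic.Differentials
import Groth.Agent.Ega41Adic.RegularOfSmooth
import Mathlib.RingTheory.Smooth.Basic
import Mathlib.RingTheory.MvPolynomial.Ideal

/-! Formal smoothness along an ideal with formally smooth quotient: the symmetric algebra criterion. -/

universe u

open TensorProduct Finset
open scoped Pointwise

namespace Groth.Ega41SymGr

open Groth.Ega41Adic

variable {A B : Type u} [CommRing A] [CommRing B] [Algebra A B] (J : Ideal B)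

theorem prod_sub_prod_mem {ι : Type u} (s : Finset ι) (x y : ι → B) (hx : ∀ i, x i ∈ J) (hy : ∀ i, y i ∈ J)
    (hxy : ∀ i, x i - y i ∈ J ^ 2) : ∏ i ∈ s, x i - ∏ i ∈ s, y i ∈ J ^ (s.card + 1) := by
  classical
  induction s using Finset.induction_on with
  | empty => simp
  | insert a s ha ih =>
    rw [Finset.prod_insert ha, Finset.prod_insert ha, Finset.card_insert_of_notMem ha,
      show x a * ∏ i ∈ s, x i - y a * ∏ i ∈ s, y i =
        x a * (∏ i ∈ s, x i - ∏ i ∈ s, y i) + (x a - y a) * ∏ i ∈ s, y i by ring]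
    refine add_mem ?_ ?_
    · rw [pow_succ' J (s.card + 1)]
      exact Ideal.mul_mem_mul (hx a) ih
    · rw [show s.card + 1 + 1 = 2 + s.card by ring, pow_add]
      exact Ideal.mul_mem_mul (hxy a) (PP16.prod_mem_pow J s y fun i _ => hy i)

theorem zetaJ_congr {ι : Type u} [Fintype ι] (x y : ι → J) (h : ∀ i, J.toCotangent (x i) = J.toCotangent (y i)) :
    PP16.zetaJ B J x = PP16.zetaJ B J y := by
  refine (Submodule.Quotient.eq _).mpr ?_
  show (∏ i, (x i : B)) - ∏ i, (y i : B) ∈ J ^ (Fintype.card ι + 1)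
  exact prod_sub_prod_mem J univ (fun i => (x i : B)) (fun i => (y i : B)) (fun i => (x i).2) (fun i => (y i).2)
    fun i => (Ideal.toCotangent_eq J).mp (h i)

/-- The canonical surjection onto the graded piece. -/
theorem exists_symPower_hom (ι : Type u) [Fintype ι] :
    ∃ φ : SymmetricPower B ι J.Cotangent →ₗ[B] PP16.grJ B J (Fintype.card ι),
      (∀ x : ι → J, φ (SymmetricPower.tprod B fun i => J.toCotangent (x i)) = PP16.zetaJ B J x) ∧
        Function.Surjective φ := by
  classical
  choose lift hlift using fun y : J.Cotangent => Ideal.toCotangent_surjective J y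
  let g : MultilinearMap B (fun _ : ι => J.Cotangent) (PP16.grJ B J (Fintype.card ι)) :=
    { toFun := fun y => PP16.zetaJ B J fun i => lift (y i)
      map_update_add' := fun {inst} y i a b => by
        cases Subsingleton.elim inst (Classical.decEq ι)
        rw [zetaJ_congr J (fun j => lift (Function.update y i (a + b) j))
            (Function.update (fun j => lift (y j)) i (lift a + lift b)) fun j => ?_,
          zetaJ_congr J (fun j => lift (Function.update y i a j)) (Function.update (fun j => lift (y j)) i (lift a)) fun j => ?_,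
          zetaJ_congr J (fun j => lift (Function.update y i b j)) (Function.update (fun j => lift (y j)) i (lift b)) fun j => ?_]
        · refine (congrArg Submodule.Quotient.mk (Subtype.ext ?_)).trans (Submodule.Quotient.mk_add _)
          show ∏ j, ((Function.update (fun j => lift (y j)) i (lift a + lift b) j : J) : B) =
            ∏ j, ((Function.update (fun j => lift (y j)) i (lift a) j : J) : B) +
              ∏ j, ((Function.update (fun j => lift (y j)) i (lift b) j : J) : B)
          simp only [Function.apply_update (fun _ (z : J) => (z : B)), Finset.prod_update_of_mem (Finset.mem_univ i),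
            Submodule.coe_add, add_mul]
        all_goals
          by_cases hj : j = i
          · subst hj; simp [hlift]
          · simp [hj]
      map_update_smul' := fun {inst} y i c a => by
        cases Subsingleton.elim inst (Classical.decEq ι)
        rw [zetaJ_congr J (fun j => lift (Function.update y i (c • a) j))
            (Function.update (fun j => lift (y j)) i (c • lift a)) fun j => ?_,
          zetaJ_congr J (fun j => lift (Function.update y i a j)) (Function.update (fun j => lift (y j)) i (lift a)) fun j => ?_]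
        · refine (congrArg Submodule.Quotient.mk (Subtype.ext ?_)).trans (Submodule.Quotient.mk_smul _ _ _)
          show ∏ j, ((Function.update (fun j => lift (y j)) i (c • lift a) j : J) : B) =
            c • ∏ j, ((Function.update (fun j => lift (y j)) i (lift a) j : J) : B)
          simp only [Function.apply_update (fun _ (z : J) => (z : B)), Finset.prod_update_of_mem (Finset.mem_univ i),
            Submodule.coe_smul, smul_eq_mul, mul_assoc]
        all_goals
          by_cases hj : j = i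
          · subst hj; simp [hlift]
          · simp [hj] }
  have hg : ∀ (e : Equiv.Perm ι) (f : ι → J.Cotangent), g (fun i => f (e i)) = g f := fun e f => by
    refine congrArg Submodule.Quotient.mk (Subtype.ext ?_)
    exact Equiv.prod_comp e fun i => (lift (f i) : B)
  refine ⟨symLift g hg, fun x => ?_, fun z => ?_⟩
  · rw [symLift_tprod]
    exact zetaJ_congr J _ x fun i => hlift _
  · obtain ⟨⟨z, hz⟩, rfl⟩ := Submodule.mkQ_surjective _ z
    have hz' : z ∈ Submodule.span B ((J : Set B) ^ Fintype.card ι) := by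
      rw [← Submodule.span_pow]
      exact (pow_le_pow_left' (le_of_eq (Ideal.span_eq J).symm) (Fintype.card ι)) hz
    suffices ∀ z ∈ Submodule.span B ((J : Set B) ^ Fintype.card ι), ∃ hz : z ∈ J ^ Fintype.card ι,
        Submodule.Quotient.mk ⟨z, hz⟩ ∈ LinearMap.range (symLift g hg) by
      obtain ⟨_, h⟩ := this z hz'
      exact h
    intro z hz
    induction hz using Submodule.span_induction with
    | mem w hw =>
      obtain ⟨f, rfl⟩ := Set.mem_pow.mp hw
      let x : ι → J := fun i => ⟨(f (Fintype.equivFin ι i) : B), (f (Fintype.equivFin ι i)).2⟩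
      have hp : (List.ofFn fun i => (f i : B)).prod = ∏ i, (x i : B) := by
        rw [List.prod_ofFn]
        exact ((Fintype.equivFin ι).prod_comp fun i => (f i : B)).symm
      refine ⟨hp ▸ by simpa using PP16.prod_mem_pow J univ (fun i => (x i : B)) (fun i _ => (x i).2), ?_⟩
      refine ⟨SymmetricPower.tprod B fun i => J.toCotangent (x i), ?_⟩
      rw [symLift_tprod]
      exact (zetaJ_congr J _ x fun i => hlift _).trans (congrArg Submodule.Quotient.mk (Subtype.ext hp.symm))
    | zero => exact ⟨zero_mem _, zero_mem _⟩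
    | add a b _ _ ha hb =>
      obtain ⟨ha, ha'⟩ := ha
      obtain ⟨hb, hb'⟩ := hb
      exact ⟨add_mem ha hb, add_mem ha' hb'⟩
    | smul c a _ ha =>
      obtain ⟨ha, ha'⟩ := ha
      exact ⟨Submodule.smul_mem _ c ha, Submodule.smul_mem _ c ha'⟩

variable [Algebra.FormallySmooth A (B ⧸ J)]

omit [Algebra.FormallySmooth A (B ⧸ J)] in
theorem isNilpotent_ker_factor (n : ℕ) :
    IsNilpotent (RingHom.ker ((Ideal.Quotient.factorₐ A (Ideal.pow_le_self n.succ_ne_zero) :
      (B ⧸ J ^ (n + 1)) →ₐ[A] B ⧸ J) : (B ⧸ J ^ (n + 1)) →+* B ⧸ J)) := ⟨n + 1, by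
  rw [Submodule.zero_eq_bot, eq_bot_iff]
  have hle : RingHom.ker ((Ideal.Quotient.factorₐ A (Ideal.pow_le_self n.succ_ne_zero) :
      (B ⧸ J ^ (n + 1)) →ₐ[A] B ⧸ J) : (B ⧸ J ^ (n + 1)) →+* B ⧸ J) ≤ J.map (Ideal.Quotient.mk (J ^ (n + 1))) := by
    intro x hx
    obtain ⟨b, rfl⟩ := Ideal.Quotient.mk_surjective x
    exact Ideal.mem_map_of_mem _ (Ideal.Quotient.eq_zero_iff_mem.mp hx)
  refine (Ideal.pow_right_mono hle _).trans ?_
  rw [← Ideal.map_pow, Ideal.map_quotient_self]⟩

/-- Sections of `B/J^(n+1) → B/J`. -/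
theorem exists_section (n : ℕ) : ∃ σ : (B ⧸ J) →ₐ[A] B ⧸ J ^ (n + 1),
    ∀ b : B, Ideal.Quotient.factor (Ideal.pow_le_self n.succ_ne_zero) (σ (Ideal.Quotient.mk J b)) = Ideal.Quotient.mk J b := by
  let g : (B ⧸ J ^ (n + 1)) →ₐ[A] B ⧸ J := Ideal.Quotient.factorₐ A (Ideal.pow_le_self n.succ_ne_zero)
  have hsurj : Function.Surjective g := Ideal.Quotient.factor_surjective (Ideal.pow_le_self n.succ_ne_zero)
  refine ⟨Algebra.FormallySmooth.liftOfSurjective (AlgHom.id A (B ⧸ J)) g hsurj (isNilpotent_ker_factor J n), fun b => ?_⟩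
  exact Algebra.FormallySmooth.liftOfSurjective_apply (AlgHom.id A (B ⧸ J)) g hsurj _ _

/-- A derivation splitting `J/J² → Ω ⊗ B/J`. -/
theorem exists_derivation_cotangent : ∃ δ : Derivation A B J.Cotangent, ∀ x : J, δ x = J.toCotangent x := by
  classical
  obtain ⟨σ, hσ⟩ := exists_section (A := A) J 1
  choose c hc using fun y : B ⧸ J => Ideal.Quotient.mk_surjective (σ y)
  have hcJ : ∀ b : B, b - c (Ideal.Quotient.mk J b) ∈ J := fun b => by
    refine Ideal.Quotient.eq.mp (Eq.symm ?_)
    have h := hσ b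
    rw [← hc, Ideal.Quotient.factor_mk] at h
    exact h
  let d : B → J.Cotangent := fun b => J.toCotangent ⟨b - c (Ideal.Quotient.mk J b), hcJ b⟩
  have hd : ∀ (b : B) (z : J) , Ideal.Quotient.mk (J ^ 2) (b - (z : B)) = σ (Ideal.Quotient.mk J b) → d b = J.toCotangent z := by
    intro b z h
    refine (Ideal.toCotangent_eq J).mpr ?_
    show b - c (Ideal.Quotient.mk J b) - (z : B) ∈ J ^ 2
    rw [← Ideal.Quotient.eq_zero_iff_mem, sub_right_comm, map_sub, h, hc, sub_self]
  refine ⟨Derivation.mk' { toFun := d, map_add' := fun a b => ?_, map_smul' := fun r b => ?_ } fun a b => ?_, fun x => ?_⟩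
  · show d (a + b) = d a + d b
    rw [show d a + d b = J.toCotangent (⟨a - c (Ideal.Quotient.mk J a), hcJ a⟩ + ⟨b - c (Ideal.Quotient.mk J b), hcJ b⟩) from
      (map_add J.toCotangent _ _).symm]
    refine hd _ _ ?_
    rw [Submodule.coe_add, show a + b - (a - c (Ideal.Quotient.mk J a) + (b - c (Ideal.Quotient.mk J b))) =
      c (Ideal.Quotient.mk J a) + c (Ideal.Quotient.mk J b) by ring, map_add, hc, hc, ← map_add, ← map_add]
  · show d (r • b) = r • d b
    rw [← algebraMap_smul B r (d b), show algebraMap A B r • d b = J.toCotangent (algebraMap A B r • ⟨b - c (Ideal.Quotient.mk J b), hcJ b⟩) from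
      (map_smul J.toCotangent _ _).symm]
    refine hd _ _ ?_
    rw [Submodule.coe_smul, smul_eq_mul, Algebra.smul_def r b, show algebraMap A B r * b -
      algebraMap A B r * (b - c (Ideal.Quotient.mk J b)) = algebraMap A B r * c (Ideal.Quotient.mk J b) by ring,
      map_mul, hc, map_mul]
    rw [show Ideal.Quotient.mk J (algebraMap A B r) = algebraMap A (B ⧸ J) r from rfl,
      map_mul, AlgHom.commutes]
    rfl
  · show d (a * b) = a • d b + b • d a
    rw [show a • d b + b • d a = J.toCotangent (a • ⟨b - c (Ideal.Quotient.mk J b), hcJ b⟩ + b • ⟨a - c (Ideal.Quotient.mk J a), hcJ a⟩) by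
      rw [map_add, map_smul, map_smul]]
    refine hd _ _ ?_
    rw [map_mul (Ideal.Quotient.mk J), map_mul σ, ← hc, ← hc, ← map_mul, Ideal.Quotient.eq]
    simp only [Submodule.coe_add, Submodule.coe_smul, smul_eq_mul]
    rw [show a * b - (a * (b - c (Ideal.Quotient.mk J b)) + b * (a - c (Ideal.Quotient.mk J a))) -
      c (Ideal.Quotient.mk J a) * c (Ideal.Quotient.mk J b) =
      -((a - c (Ideal.Quotient.mk J a)) * (b - c (Ideal.Quotient.mk J b))) by ring, sq]
    exact neg_mem (Ideal.mul_mem_mul (hcJ a) (hcJ b))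
  · refine hd _ x ?_
    rw [sub_self, map_zero, Ideal.Quotient.eq_zero_iff_mem.mpr x.2, map_zero]

/-- `J/J²` is projective when `B` is formally smooth. -/
theorem projective_cotangent (h : CAlgX.IsAdicFormallySmooth A B J) : Module.Projective (B ⧸ J) J.Cotangent := by
  obtain ⟨δ, hδ⟩ := exists_derivation_cotangent (A := A) J
  haveI : Module.Projective (B ⧸ J) ((B ⧸ J) ⊗[B] Ω[B⁄A]) :=
    projective_kaehler_quotient_of_isFormallySmoothAdic (isAdicFormallySmooth_iff.mp h) ⟨1, by simp⟩ J ⟨1, by rw [pow_one]⟩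
  let i0 : J →ₗ[B] (B ⧸ J) ⊗[B] Ω[B⁄A] :=
    { toFun := fun x => 1 ⊗ₜ KaehlerDifferential.D A B (x : B)
      map_add' := fun x y => by rw [Submodule.coe_add, map_add, tmul_add]
      map_smul' := fun b x => by
        rw [Submodule.coe_smul, smul_eq_mul, Derivation.leibniz, tmul_add, tmul_smul, tmul_smul, RingHom.id_apply,
          ← algebraMap_smul (B ⧸ J) (x : B), show algebraMap B (B ⧸ J) x = 0 from Ideal.Quotient.eq_zero_iff_mem.mpr x.2,
          zero_smul, add_zero] }
  let i1 : J.Cotangent →ₗ[B] (B ⧸ J) ⊗[B] Ω[B⁄A] := Submodule.liftQ _ i0 (by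
    rw [Submodule.smul_le]
    intro b hb x _
    rw [LinearMap.mem_ker, map_smul, ← algebraMap_smul (B ⧸ J) b,
      show algebraMap B (B ⧸ J) b = 0 from Ideal.Quotient.eq_zero_iff_mem.mpr hb, zero_smul])
  let i := i1.extendScalarsOfSurjective (S := B ⧸ J) Ideal.Quotient.mk_surjective
  refine Module.Projective.of_split i (δ.liftKaehlerDifferential.liftBaseChange (B ⧸ J)) (LinearMap.ext fun y => ?_)
  obtain ⟨x, rfl⟩ := Ideal.toCotangent_surjective J y
  show δ.liftKaehlerDifferential.liftBaseChange (B ⧸ J) ((1 : B ⧸ J) ⊗ₜ KaehlerDifferential.D A B (x : B)) = _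
  rw [LinearMap.liftBaseChange_tmul, Derivation.liftKaehlerDifferential_comp_D, one_smul, hδ]
  rfl

section LinearForms

variable {C : Type u} [CommRing C] {N : Type u} [AddCommGroup N] [Module C N] (s : N →ₗ[C] (N →₀ C))

/-- The linear form attached to an element by a section. -/
noncomputable def lin : N →ₗ[C] MvPolynomial N C := Finsupp.linearCombination C MvPolynomial.X ∘ₗ s

theorem lin_isHomogeneous (x : N) : (lin s x).IsHomogeneous 1 := by
  rw [lin, LinearMap.comp_apply, Finsupp.linearCombination_apply]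
  refine MvPolynomial.IsHomogeneous.sum _ _ _ fun y _ => ?_
  show ((_ : C) • _ : MvPolynomial N C).IsHomogeneous 1
  rw [MvPolynomial.smul_eq_C_mul]
  simpa using (MvPolynomial.isHomogeneous_C N _).mul (MvPolynomial.isHomogeneous_X C y)

theorem lin_mem (x : N) : lin s x ∈ MvPolynomial.idealOfVars N C := by
  rw [lin, LinearMap.comp_apply, Finsupp.linearCombination_apply]
  refine sum_mem fun y _ => ?_
  show (_ : C) • _ ∈ _
  rw [MvPolynomial.smul_eq_C_mul]
  exact Ideal.mul_mem_left _ _ (Ideal.subset_span ⟨y, rfl⟩)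

/-- The idempotent endomorphism attached to a section. -/
noncomputable def proj : MvPolynomial N C →ₐ[C] MvPolynomial N C := MvPolynomial.aeval (lin s)

variable {s}

theorem proj_lin (hs : Finsupp.linearCombination C id ∘ₗ s = LinearMap.id) (x : N) : proj s (lin s x) = lin s x := by
  conv_lhs => rw [lin, LinearMap.comp_apply, Finsupp.linearCombination_apply, Finsupp.sum, map_sum]
  conv_rhs => rw [← LinearMap.id_apply (R := C) x, ← hs, LinearMap.comp_apply, Finsupp.linearCombination_apply, Finsupp.sum, map_sum]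
  refine Finset.sum_congr rfl fun y _ => ?_
  rw [map_smul, map_smul, proj, MvPolynomial.aeval_X]
  rfl

theorem proj_proj (hs : Finsupp.linearCombination C id ∘ₗ s = LinearMap.id) (f : MvPolynomial N C) :
    proj s (proj s f) = proj s f := by
  have : (proj s).comp (proj s) = proj s := MvPolynomial.algHom_ext fun y => by
    rw [AlgHom.comp_apply, show proj s (MvPolynomial.X y) = lin s y from MvPolynomial.aeval_X _ _, proj_lin hs]
  exact AlgHom.congr_fun this f

theorem proj_mem_pow {n : ℕ} {f : MvPolynomial N C} (hf : f ∈ MvPolynomial.idealOfVars N C ^ n) :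
    proj s f ∈ MvPolynomial.idealOfVars N C ^ n := by
  have hle : (MvPolynomial.idealOfVars N C).map (proj s).toRingHom ≤ MvPolynomial.idealOfVars N C := by
    rw [MvPolynomial.idealOfVars, Ideal.map_span, Ideal.span_le]
    rintro _ ⟨_, ⟨y, rfl⟩, rfl⟩
    show proj s (MvPolynomial.X y) ∈ _
    rw [proj, MvPolynomial.aeval_X]
    exact lin_mem s y
  exact Ideal.pow_right_mono hle n (by rw [← Ideal.map_pow]; exact Ideal.mem_map_of_mem _ hf)

end LinearForms

/-- The product of linear forms on the symmetric power. -/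
theorem exists_theta {N : Type u} [AddCommGroup N] [Module B N] [Module (B ⧸ J) N] [IsScalarTower B (B ⧸ J) N]
    (s : N →ₗ[B ⧸ J] (N →₀ (B ⧸ J))) (ι : Type u) [Fintype ι] :
    ∃ θ : SymmetricPower B ι N →ₗ[B] MvPolynomial N (B ⧸ J),
      ∀ x, θ (SymmetricPower.tprod B x) = ∏ i, lin s (x i) :=
  ⟨symLift ((MultilinearMap.mkPiAlgebra B ι (MvPolynomial N (B ⧸ J))).compLinearMap fun _ => (lin s).restrictScalars B)
    (fun e f => by simpa using Equiv.prod_comp e fun i => lin s (f i)), fun x => (symLift_tprod _ _ _).trans (by simp)⟩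

omit [Algebra.FormallySmooth A (B ⧸ J)] in
/-- Lifting a map along a truncation. -/
theorem exists_lift_trunc (h : CAlgX.IsAdicFormallySmooth A B J) {P : Type u} [CommRing P] [Algebra A P] (p : Ideal P)
    {n : ℕ} (hn : 2 ≤ n) (u0 : B →ₐ[A] P ⧸ p ^ 2) (hu0 : ∀ x ∈ J ^ 2, u0 x = 0) :
    ∃ v : B →ₐ[A] P ⧸ p ^ n, ∀ (b : B) (f : P), Ideal.Quotient.mk (p ^ 2) f = u0 b →
      v b - Ideal.Quotient.mk (p ^ n) f ∈ (p.map (Ideal.Quotient.mk (p ^ n))) ^ 2 := by
  let F : (P ⧸ p ^ n) →ₐ[A] P ⧸ p ^ 2 := Ideal.Quotient.factorₐ A (Ideal.pow_le_pow_right hn)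
  have hF : Function.Surjective F := Ideal.Quotient.factor_surjective (Ideal.pow_le_pow_right hn)
  have hle : RingHom.ker F.toRingHom ≤ (p.map (Ideal.Quotient.mk (p ^ n))) ^ 2 := by
    intro x hx
    obtain ⟨f, rfl⟩ := Ideal.Quotient.mk_surjective x
    rw [← Ideal.map_pow]
    exact Ideal.mem_map_of_mem _ (Ideal.Quotient.eq_zero_iff_mem.mp hx)
  have hnil : IsNilpotent (RingHom.ker F.toRingHom) := ⟨n, by
    rw [Submodule.zero_eq_bot, eq_bot_iff]
    refine (Ideal.pow_right_mono (hle.trans (Ideal.pow_le_self two_ne_zero)) n).trans ?_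
    rw [← Ideal.map_pow, Ideal.map_quotient_self]⟩
  let e := Ideal.quotientKerAlgEquivOfSurjective hF
  obtain ⟨v, hv⟩ := (isAdicFormallySmooth_iff.mp h) (P ⧸ p ^ n) (RingHom.ker F.toRingHom) hnil
    ⟨1, by rw [pow_one]; exact Ideal.map_bot⟩ (e.symm.toAlgHom.comp u0) ⟨2, fun x hx => by
      exact (congrArg e.symm (hu0 x hx)).trans (map_zero e.symm)⟩
  refine ⟨v, fun b f hf => hle ?_⟩
  rw [RingHom.mem_ker, map_sub, sub_eq_zero]
  have h1 := congrArg e (AlgHom.congr_fun hv b)
  exact (h1.trans ((e.apply_symm_apply (u0 b)).trans hf.symm))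

theorem map_mk_pow_self {R : Type u} [CommRing R] (p : Ideal R) (n : ℕ) :
    (p.map (Ideal.Quotient.mk (p ^ n))) ^ n = ⊥ := by
  rw [← Ideal.map_pow, Ideal.map_quotient_self]

omit [Algebra.FormallySmooth A (B ⧸ J)] [Algebra A B] in
/-- A symmetric tensor killed in the graded ring is killed in any compatible truncated test ring. -/
theorem eq_zero_of_symPower_hom_eq_zero {ι : Type u} [Fintype ι] {T : Type u} [CommRing T] (pT : Ideal T)
    (hpT : pT ^ (Fintype.card ι + 1) = ⊥) (v ψ : B →+* T) (L : J.Cotangent → T) (hL : ∀ y, L y ∈ pT)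
    (hC : ∀ b, v b - ψ b ∈ pT) (hvJ : ∀ x ∈ J, v x ∈ pT) (hlin : ∀ x : J, v x - L (J.toCotangent x) ∈ pT ^ 2)
    (φ : SymmetricPower B ι J.Cotangent →ₗ[B] PP16.grJ B J (Fintype.card ι))
    (hφ : ∀ x : ι → J, φ (SymmetricPower.tprod B fun i => J.toCotangent (x i)) = PP16.zetaJ B J x)
    (Θ : SymmetricPower B ι J.Cotangent →+ T) (hΘs : ∀ (c : B) t, Θ (c • t) = ψ c * Θ t)
    (hΘ : ∀ y : ι → J.Cotangent, Θ (SymmetricPower.tprod B y) = ∏ i, L (y i))
    (t : SymmetricPower B ι J.Cotangent) (ht : φ t = 0) : Θ t = 0 := by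
  have hvpow : ∀ k, ∀ x ∈ J ^ k, v x ∈ pT ^ k := fun k x hx => by
    have hle : J.map v ≤ pT := by
      rw [Ideal.map_le_iff_le_comap]
      exact fun y hy => hvJ y hy
    have := Ideal.mem_map_of_mem v hx
    rw [Ideal.map_pow] at this
    exact Ideal.pow_right_mono hle k this
  have key : ∃ y : ↥(J ^ Fintype.card ι), φ t = Submodule.Quotient.mk y ∧ v y = Θ t := by
    clear ht
    induction (show t ∈ Submodule.span B (Set.range (SymmetricPower.tprod B (ι := ι) (M := J.Cotangent))) by
      rw [SymmetricPower.span_tprod_eq_top]; trivial) using Submodule.span_induction with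
    | mem w hw =>
      obtain ⟨y, rfl⟩ := hw
      choose x hx using fun i => Ideal.toCotangent_surjective J (y i)
      obtain rfl : (fun i => J.toCotangent (x i)) = y := funext hx
      refine ⟨⟨∏ i, (x i : B), by simpa using PP16.prod_mem_pow J univ (fun i => (x i : B)) (fun i _ => (x i).2)⟩, hφ x, ?_⟩
      rw [hΘ, map_prod, ← sub_eq_zero, ← Ideal.mem_bot, ← hpT]
      exact prod_sub_prod_mem pT univ _ _ (fun i => hvJ _ (x i).2) (fun i => hL _) fun i => hlin (x i)
    | zero => exact ⟨0, by simp, by simp⟩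
    | add a b _ _ ha hb =>
      obtain ⟨ya, ha, ha'⟩ := ha
      obtain ⟨yb, hb, hb'⟩ := hb
      exact ⟨ya + yb, by rw [map_add, ha, hb]; rfl, by rw [Submodule.coe_add, map_add, ha', hb', map_add]⟩
    | smul c a _ ha =>
      obtain ⟨ya, ha, ha'⟩ := ha
      refine ⟨c • ya, by rw [map_smul, ha]; rfl, ?_⟩
      rw [Submodule.coe_smul, smul_eq_mul, map_mul, hΘs, ← ha', ← sub_eq_zero, ← sub_mul, ← Ideal.mem_bot, ← hpT, pow_succ']
      exact Ideal.mul_mem_mul (hC c) (hvpow _ _ ya.2)
  obtain ⟨y, hy, hy'⟩ := key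
  have hy1 := hy.symm.trans ht
  unfold PP16.grJ at hy1
  have hy2' := (Submodule.Quotient.mk_eq_zero _).mp hy1
  have hy2 : (y : B) ∈ J ^ (Fintype.card ι + 1) := hy2'
  rw [← hy', ← Ideal.mem_bot, ← hpT]
  exact hvpow _ _ hy2

/-- The graded symmetric algebra map is bijective when `B` is formally smooth. -/
theorem symGrBijective (h : CAlgX.IsAdicFormallySmooth A B J) : PP16.SymGrBijective B J := by
  classical
  intro ι _ _
  obtain ⟨φ, hφ, hsurj⟩ := exists_symPower_hom J ι
  refine ⟨φ, hφ, ?_, hsurj⟩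
  haveI := projective_cotangent J h
  obtain ⟨s, hs⟩ := Module.projective_def'.mp (inferInstance : Module.Projective (B ⧸ J) J.Cotangent)
  obtain ⟨δ, hδ⟩ := exists_derivation_cotangent (A := A) J
  obtain ⟨θ, hθ⟩ := exists_theta J s ι
  have hinjθ : Function.Injective θ :=
    injective_of_split (C := B ⧸ J) Ideal.Quotient.mk_surjective s hs θ hθ
  let P := MvPolynomial J.Cotangent (B ⧸ J)
  let p : Ideal P := MvPolynomial.idealOfVars J.Cotangent (B ⧸ J)
  let m := Fintype.card ι
  -- the initial map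
  let u0 : B →ₐ[A] P ⧸ p ^ 2 :=
    { toFun := fun b => Ideal.Quotient.mk _ (MvPolynomial.C (Ideal.Quotient.mk J b) + lin s (δ b))
      map_one' := by simp
      map_mul' := fun a b => by
        rw [← map_mul, Derivation.leibniz, map_add (lin s), LinearMap.map_smul_of_tower, LinearMap.map_smul_of_tower,
          map_mul (Ideal.Quotient.mk J), map_mul (MvPolynomial.C), Ideal.Quotient.eq]
        have h2 : lin s (δ a) * lin s (δ b) ∈ p ^ 2 := by
          rw [sq]; exact Ideal.mul_mem_mul (lin_mem s _) (lin_mem s _)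
        have hsm : ∀ (b : B) (f : P), b • f = MvPolynomial.C (Ideal.Quotient.mk J b) * f := fun b f => by
          rw [Algebra.smul_def]; rfl
        rw [hsm a, hsm b]
        convert neg_mem h2 using 1
        ring
      map_zero' := by simp
      map_add' := fun a b => by simp only [map_add]; ring
      commutes' := fun a => by
        simp only [Derivation.map_algebraMap, map_zero, add_zero]
        rfl }
  have hδ2 : ∀ x ∈ J ^ 2, δ x = 0 := fun x hx => by
    rw [show δ x = J.toCotangent ⟨x, Ideal.pow_le_self two_ne_zero hx⟩ from hδ ⟨x, Ideal.pow_le_self two_ne_zero hx⟩,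
      Ideal.toCotangent_eq_zero]
    exact hx
  have hm : 1 ≤ m := Fintype.card_pos
  obtain ⟨v, hv⟩ := exists_lift_trunc J h p (n := m + 1) (by omega) u0 fun x hx => by
    show Ideal.Quotient.mk _ _ = 0
    rw [hδ2 x hx, Ideal.Quotient.eq_zero_iff_mem.mpr (Ideal.pow_le_self two_ne_zero hx)]
    simp
  let pT : Ideal (P ⧸ p ^ (m + 1)) := p.map (Ideal.Quotient.mk (p ^ (m + 1)))
  have hpT : pT ^ (m + 1) = ⊥ := map_mk_pow_self p (m + 1)
  have hv' : ∀ b, v b - Ideal.Quotient.mk _ (MvPolynomial.C (Ideal.Quotient.mk J b) + lin s (δ b)) ∈ pT ^ 2 :=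
    fun b => hv b _ rfl
  have hCmem : ∀ b : B, v b - Ideal.Quotient.mk _ (MvPolynomial.C (Ideal.Quotient.mk J b)) ∈ pT := fun b => by
    have h1 := Ideal.pow_le_self two_ne_zero (hv' b)
    have h2 : Ideal.Quotient.mk (p ^ (m + 1)) (lin s (δ b)) ∈ pT := Ideal.mem_map_of_mem _ (lin_mem s _)
    have := add_mem h1 h2
    rwa [map_add, ← sub_sub, sub_add_cancel] at this
  have hlin : ∀ x : J, v x - Ideal.Quotient.mk _ (lin s (J.toCotangent x)) ∈ pT ^ 2 := fun x => by
    have h1 := hv' (x : B)
    rwa [Ideal.Quotient.eq_zero_iff_mem.mpr x.2, map_zero, zero_add, hδ] at h1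
  have hvJ : ∀ x ∈ J, v x ∈ pT := fun x hx => by
    have := hCmem x
    rwa [Ideal.Quotient.eq_zero_iff_mem.mpr hx, map_zero, map_zero, sub_zero] at this
  rw [injective_iff_map_eq_zero]
  intro t ht
  have hy' : θ t ∈ p ^ (m + 1) := by
    rw [← Ideal.Quotient.eq_zero_iff_mem]
    refine eq_zero_of_symPower_hom_eq_zero J pT hpT v.toRingHom
      ((Ideal.Quotient.mk (p ^ (m + 1))).comp (MvPolynomial.C.comp (Ideal.Quotient.mk J)))
      (fun y => Ideal.Quotient.mk _ (lin s y)) (fun y => Ideal.mem_map_of_mem _ (lin_mem s y)) hCmem hvJ hlin φ hφ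
      ((Ideal.Quotient.mk (p ^ (m + 1))).toAddMonoidHom.comp θ.toAddMonoidHom) (fun c t => ?_) (fun y => ?_) t ht
    · show Ideal.Quotient.mk _ (θ (c • t)) = Ideal.Quotient.mk _ (MvPolynomial.C (Ideal.Quotient.mk J c)) * Ideal.Quotient.mk _ (θ t)
      rw [map_smul, ← map_mul, ← algebraMap_smul (B ⧸ J) c, MvPolynomial.smul_eq_C_mul]
      rfl
    · show Ideal.Quotient.mk _ (θ (SymmetricPower.tprod B y)) = _
      rw [hθ, map_prod]
  have hhom : (θ t).IsHomogeneous m := by
    clear ht hy'
    induction (show t ∈ Submodule.span B (Set.range (SymmetricPower.tprod B (ι := ι) (M := J.Cotangent))) by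
      rw [SymmetricPower.span_tprod_eq_top]; trivial) using Submodule.span_induction with
    | mem w hw =>
      obtain ⟨x, rfl⟩ := hw
      rw [hθ, show m = ∑ _i : ι, 1 by simp [m]]
      exact MvPolynomial.IsHomogeneous.prod _ _ _ fun i _ => lin_isHomogeneous s _
    | zero => rw [map_zero]; exact MvPolynomial.isHomogeneous_zero _ _ _
    | add a b _ _ ha hb => rw [map_add]; exact ha.add hb
    | smul c a _ ha =>
      rw [map_smul, ← algebraMap_smul (B ⧸ J) c, MvPolynomial.smul_eq_C_mul]
      simpa using (MvPolynomial.isHomogeneous_C J.Cotangent (algebraMap B (B ⧸ J) c)).mul ha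
  refine hinjθ (.trans ?_ (map_zero θ).symm)
  ext d
  rw [MvPolynomial.coeff_zero]
  by_cases hd : d.degree = m
  · exact (MvPolynomial.mem_pow_idealOfVars_iff' _ _).mp hy' d (by omega)
  · exact hhom.coeff_eq_zero hd

/-- The symmetric algebra criterion implies formal smoothness. -/
theorem isAdicFormallySmooth_of_symGr [Module.Projective (B ⧸ J) J.Cotangent] (hsym : PP16.SymGrBijective B J) :
    CAlgX.IsAdicFormallySmooth A B J := by
  classical
  refine isAdicFormallySmooth_iff.mpr fun E _ _ I hI _ u ⟨k, hk⟩ => ?_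
  obtain ⟨t, ht⟩ := hI
  obtain ⟨s, hs⟩ := Module.projective_def'.mp (inferInstance : Module.Projective (B ⧸ J) J.Cotangent)
  let M := k * (t + 1) + 1
  obtain ⟨σ, hσ⟩ := exists_section (A := A) J M
  choose lift hlift using fun y : J.Cotangent => Ideal.toCotangent_surjective J y
  let P := MvPolynomial J.Cotangent (B ⧸ J)
  let p : Ideal P := MvPolynomial.idealOfVars J.Cotangent (B ⧸ J)
  let π0 : P →ₐ[A] B ⧸ J ^ (M + 1) := MvPolynomial.aevalTower σ fun y => Ideal.Quotient.mk _ (lift y : B)
  let π : P →ₐ[A] B ⧸ J ^ (M + 1) := π0.comp ((proj s).restrictScalars A)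
  have hπproj : ∀ f, π (proj s f) = π f := fun f => congrArg π0 (proj_proj hs f)
  let Jb : Ideal (B ⧸ J ^ (M + 1)) := J.map (Ideal.Quotient.mk _)
  have hJb : IsNilpotent Jb := ⟨M + 1, by rw [← Ideal.map_pow, Ideal.map_quotient_self]; rfl⟩
  have hσJ : ∀ b : B, Ideal.Quotient.mk _ b - σ (Ideal.Quotient.mk J b) ∈ Jb := fun b => by
    obtain ⟨c, hc⟩ := Ideal.Quotient.mk_surjective (σ (Ideal.Quotient.mk J b))
    rw [← hc, ← map_sub]
    refine Ideal.mem_map_of_mem _ (Ideal.Quotient.eq.mp ?_)
    have h := hσ b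
    rw [← hc, Ideal.Quotient.factor_mk] at h
    exact h.symm
  have hσmul : ∀ (b : B), ∀ z ∈ Jb, σ (Ideal.Quotient.mk J b) * z - Ideal.Quotient.mk _ b * z ∈ Jb ^ 2 := fun b z hz => by
    rw [← sub_mul, ← neg_sub, neg_mul, sq]
    exact neg_mem (Ideal.mul_mem_mul (hσJ b) hz)
  have hπX : ∀ y, π (MvPolynomial.X y) - Ideal.Quotient.mk _ (lift y : B) ∈ Jb ^ 2 := by
    intro y
    have e1 : π (MvPolynomial.X y) = ∑ z ∈ (s y).support, σ (s y z) * Ideal.Quotient.mk _ (lift z : B) := by
      show π0 (proj s (MvPolynomial.X y)) = _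
      rw [proj, MvPolynomial.aeval_X, lin, LinearMap.comp_apply, Finsupp.linearCombination_apply, Finsupp.sum, map_sum]
      refine Finset.sum_congr rfl fun z _ => ?_
      rw [MvPolynomial.smul_eq_C_mul, map_mul]
      exact congrArg₂ (· * ·) (MvPolynomial.aevalTower_C _ _ _) (MvPolynomial.aevalTower_X _ _ _)
    choose b hb using fun c : B ⧸ J => Ideal.Quotient.mk_surjective c
    have e2 : (∑ z ∈ (s y).support, b (s y z) * (lift z : B)) - (lift y : B) ∈ J ^ 2 := by
      have e3 : J.toCotangent (∑ z ∈ (s y).support, b (s y z) • lift z) = J.toCotangent (lift y) := by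
        rw [map_sum, hlift]
        conv_rhs => rw [← LinearMap.id_apply (R := B ⧸ J) y, ← hs, LinearMap.comp_apply, Finsupp.linearCombination_apply, Finsupp.sum]
        refine Finset.sum_congr rfl fun z _ => ?_
        rw [map_smul, hlift, ← algebraMap_smul (B ⧸ J) (b _), Ideal.Quotient.algebraMap_eq, hb]
        rfl
      have := (Ideal.toCotangent_eq J).mp e3
      simpa [Submodule.coe_sum] using this
    have e4 := Ideal.mem_map_of_mem (Ideal.Quotient.mk (J ^ (M + 1))) e2
    rw [Ideal.map_pow, map_sub, map_sum] at e4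
    rw [e1, show ∀ a b c : B ⧸ J ^ (M + 1), a - c = (a - b) + (b - c) from fun a b c => by ring]
    refine add_mem ?_ e4
    rw [← Finset.sum_sub_distrib]
    refine sum_mem fun z _ => ?_
    rw [map_mul]
    have h5 := hσmul (b (s y z)) _ (Ideal.mem_map_of_mem (Ideal.Quotient.mk (J ^ (M + 1))) (lift z).2)
    rwa [hb] at h5
  have hπC : ∀ c : B ⧸ J, π (MvPolynomial.C c) = σ c := fun c => by
    show π0 (proj s (MvPolynomial.C c)) = _
    rw [proj, MvPolynomial.aeval_C]
    exact MvPolynomial.aevalTower_C _ _ _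
  have hπsurj : Function.Surjective π := by
    refine surjective_of_surjective_mod_sq π.toRingHom Jb hJb fun c => ?_
    obtain ⟨b, rfl⟩ := Ideal.Quotient.mk_surjective c
    obtain ⟨z, hz, hz'⟩ := (Ideal.mem_map_iff_of_surjective _ Ideal.Quotient.mk_surjective).mp (hσJ b)
    have hd : Ideal.Quotient.mk (J ^ (M + 1)) z - Ideal.Quotient.mk _ (lift (J.toCotangent ⟨z, hz⟩) : B) ∈ Jb ^ 2 := by
      rw [← map_sub, ← Ideal.map_pow]
      exact Ideal.mem_map_of_mem _ ((Ideal.toCotangent_eq J).mp (hlift (J.toCotangent ⟨z, hz⟩)).symm)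
    refine ⟨MvPolynomial.C (Ideal.Quotient.mk J b) + MvPolynomial.X (J.toCotangent ⟨z, hz⟩), ?_⟩
    show _ - π _ ∈ _
    rw [map_add, hπC, ← sub_sub, ← hz', show ∀ a b c : B ⧸ J ^ (M + 1), a - b = (a - c) - (b - c) from fun a b c => by ring]
    exact sub_mem hd (hπX _)
  have hπp : p.map π.toRingHom ≤ Jb := by
    show (MvPolynomial.idealOfVars _ _).map _ ≤ _
    rw [MvPolynomial.idealOfVars, Ideal.map_span, Ideal.span_le]
    rintro _ ⟨_, ⟨y, rfl⟩, rfl⟩
    show π (MvPolynomial.X y) ∈ Jb
    rw [← sub_add_cancel (π (MvPolynomial.X y)) (Ideal.Quotient.mk _ (lift y : B))]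
    exact add_mem (Ideal.pow_le_self two_ne_zero (hπX y)) (Ideal.mem_map_of_mem _ (lift y).2)
  have hπpow : ∀ j, ∀ f ∈ p ^ j, π f ∈ Jb ^ j := fun j f hf =>
    Ideal.pow_right_mono hπp j (by rw [← Ideal.map_pow]; exact Ideal.mem_map_of_mem π.toRingHom hf)
  -- homogeneous polynomials
  have hom : ∀ (ι : Type u) [Fintype ι], ∀ (φ : SymmetricPower B ι J.Cotangent →ₗ[B] PP16.grJ B J (Fintype.card ι)),
      (∀ x : ι → J, φ (SymmetricPower.tprod B fun i => J.toCotangent (x i)) = PP16.zetaJ B J x) →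
      ∀ (θ : SymmetricPower B ι J.Cotangent →ₗ[B] P), (∀ x, θ (SymmetricPower.tprod B x) = ∏ i, lin s (x i)) →
      ∀ f : P, f.IsHomogeneous (Fintype.card ι) → ∃ (t : SymmetricPower B ι J.Cotangent) (b : ↥(J ^ Fintype.card ι)),
        θ t = proj s f ∧ φ t = Submodule.Quotient.mk b ∧
          π f - Ideal.Quotient.mk _ (b : B) ∈ Jb ^ (Fintype.card ι + 1) := by
    intro ι _ φ hφ θ hθ f hf
    rw [MvPolynomial.as_sum f]
    suffices H : ∀ d : J.Cotangent →₀ ℕ, d.degree = Fintype.card ι → ∀ c : B ⧸ J,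
        ∃ (t : SymmetricPower B ι J.Cotangent) (b : ↥(J ^ Fintype.card ι)), θ t = proj s (MvPolynomial.monomial d c) ∧
          φ t = Submodule.Quotient.mk b ∧
          π (MvPolynomial.monomial d c) - Ideal.Quotient.mk _ (b : B) ∈ Jb ^ (Fintype.card ι + 1) by
      choose t b h1 h2 h3 using fun d : f.support => H d (by
        rw [Finsupp.degree_eq_weight_one]
        exact hf (MvPolynomial.mem_support_iff.mp d.2)) (MvPolynomial.coeff (d : J.Cotangent →₀ ℕ) f)
      refine ⟨∑ d, t d, ∑ d, b d, ?_, ?_, ?_⟩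
      · rw [map_sum, map_sum, ← Finset.sum_coe_sort f.support]
        exact Finset.sum_congr rfl fun d _ => h1 d
      · rw [map_sum]
        simp only [h2]
        exact (map_sum (Submodule.mkQ _) _ _).symm
      · rw [Submodule.coe_sum, map_sum, map_sum, ← Finset.sum_coe_sort f.support, ← Finset.sum_sub_distrib]
        exact sum_mem fun d _ => h3 d
    intro d hd c
    obtain ⟨g, hg⟩ := exists_sum_single_eq d hd
    obtain ⟨b0, rfl⟩ := Ideal.Quotient.mk_surjective c
    have hmon : MvPolynomial.monomial d (Ideal.Quotient.mk J b0) =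
        MvPolynomial.C (Ideal.Quotient.mk J b0) * ∏ i, MvPolynomial.X (g i) := by
      rw [show (∏ i, MvPolynomial.X (g i) : P) = MvPolynomial.monomial d 1 by rw [← hg, MvPolynomial.monomial_sum_one]; rfl,
        MvPolynomial.C_mul_monomial, mul_one]
    refine ⟨b0 • SymmetricPower.tprod B g, b0 • ⟨∏ i, (lift (g i) : B), by
      simpa using PP16.prod_mem_pow J univ (fun i => (lift (g i) : B)) (fun i _ => (lift (g i)).2)⟩, ?_, ?_, ?_⟩
    · rw [map_smul, hθ, hmon, map_mul, map_prod, Algebra.smul_def]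
      congr 1
      · rw [proj, MvPolynomial.aeval_C]; rfl
      · exact Finset.prod_congr rfl fun i _ => (MvPolynomial.aeval_X _ _).symm
    · rw [map_smul]
      have := hφ fun i => lift (g i)
      simp only [hlift] at this
      rw [this]
      rfl
    · rw [hmon, map_mul, map_prod, hπC, Submodule.coe_smul, smul_eq_mul, map_mul, map_prod]
      have h1 := prod_sub_prod_mem Jb univ (fun i => π (MvPolynomial.X (g i))) (fun i => Ideal.Quotient.mk _ (lift (g i) : B))
        (fun i => hπp (Ideal.mem_map_of_mem π.toRingHom (Ideal.subset_span ⟨g i, rfl⟩)))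
        (fun i => Ideal.mem_map_of_mem _ (lift (g i)).2) (fun i => hπX (g i))
      rw [Finset.card_univ] at h1
      rw [show ∀ a b c d : B ⧸ J ^ (M + 1), a * b - c * d = a * (b - d) + (a - c) * d from fun a b c d => by ring]
      refine add_mem (Ideal.mul_mem_left _ _ h1) ?_
      rw [pow_succ' Jb]
      refine Ideal.mul_mem_mul ?_ ?_
      · rw [← neg_sub]; exact neg_mem (hσJ b0)
      · simpa using PP16.prod_mem_pow Jb univ (fun i => Ideal.Quotient.mk _ (lift (g i) : B)) (fun i _ => Ideal.mem_map_of_mem _ (lift (g i)).2)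
  have hker : ∀ f, π f = 0 → ∀ j ≤ M + 1, proj s f ∈ p ^ j := by
    intro f hf j
    induction j with
    | zero => simp
    | succ j ih =>
      intro hj
      have hg := ih (by omega)
      set g := proj s f with hgdef
      let gj := MvPolynomial.homogeneousComponent j g
      have hdiff : g - gj ∈ p ^ (j + 1) := by
        rw [MvPolynomial.mem_pow_idealOfVars_iff']
        intro d hd
        rw [MvPolynomial.coeff_sub, MvPolynomial.coeff_homogeneousComponent]
        by_cases hdj : d.degree = j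
        · rw [if_pos hdj, sub_self]
        · rw [if_neg hdj, sub_zero]
          exact (MvPolynomial.mem_pow_idealOfVars_iff' _ _).mp hg d (by omega)
      have hπgj : π gj ∈ Jb ^ (j + 1) := by
        have h1 := hπpow _ _ hdiff
        rwa [map_sub, hgdef, hπproj, hf, zero_sub, neg_mem_iff] at h1
      have hgg : proj s g = g := proj_proj hs f
      have hproj0 : proj s gj = 0 := by
        rcases Nat.eq_zero_or_pos j with rfl | hj0
        · obtain ⟨b, hb⟩ := Ideal.Quotient.mk_surjective (MvPolynomial.coeff 0 g)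
          have hgj : gj = MvPolynomial.C (MvPolynomial.coeff 0 g) := MvPolynomial.homogeneousComponent_zero _
          rw [hgj, hπC, ← hb] at hπgj
          have h2 := add_mem (hσJ b) (Ideal.pow_le_self (Nat.succ_ne_zero _) hπgj)
          rw [sub_add_cancel] at h2
          obtain ⟨z, hz, hz'⟩ := (Ideal.mem_map_iff_of_surjective _ Ideal.Quotient.mk_surjective).mp h2
          have hbJ : b ∈ J := by
            rw [← sub_sub_cancel z b]
            exact sub_mem hz (Ideal.pow_le_self M.succ_ne_zero (Ideal.Quotient.eq.mp hz'))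
          rw [hgj, ← hb, Ideal.Quotient.eq_zero_iff_mem.mpr hbJ, map_zero, map_zero]
        · haveI : Nonempty (ULift.{u} (Fin j)) := ⟨⟨⟨0, hj0⟩⟩⟩
          obtain ⟨φ, hφ, hφinj, -⟩ := hsym (ULift.{u} (Fin j))
          obtain ⟨θ, hθ⟩ := exists_theta J s (ULift.{u} (Fin j))
          have hcard : Fintype.card (ULift.{u} (Fin j)) = j := by simp
          obtain ⟨t, b, h1, h2, h3⟩ := hom (ULift.{u} (Fin j)) φ hφ θ hθ gj (by
            rw [hcard]; exact MvPolynomial.homogeneousComponent_isHomogeneous j g)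
          have hb : (b : B) ∈ J ^ (Fintype.card (ULift.{u} (Fin j)) + 1) := by
            have hπgj' : π gj ∈ Jb ^ (Fintype.card (ULift.{u} (Fin j)) + 1) := by rw [hcard]; exact hπgj
            have h4 := sub_mem hπgj' h3
            rw [sub_sub_cancel, ← Ideal.map_pow] at h4
            obtain ⟨z, hz, hz'⟩ := (Ideal.mem_map_iff_of_surjective _ Ideal.Quotient.mk_surjective).mp h4
            rw [← sub_sub_cancel z (b : B)]
            exact sub_mem hz (Ideal.pow_le_pow_right (by rw [hcard]; exact hj) (Ideal.Quotient.eq.mp hz'))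
          have ht0 : t = 0 := hφinj (by rw [map_zero, h2, Submodule.Quotient.mk_eq_zero]; exact hb)
          rw [← h1, ht0, map_zero]
      rw [← hgg, ← sub_zero (proj s g), ← hproj0, ← map_sub]
      exact proj_mem_pow hdiff
  -- lifting
  haveI : Algebra.FormallySmooth A P := Algebra.FormallySmooth.comp A (B ⧸ J) P
  have hkM : k ≤ M + 1 := le_trans (Nat.le_mul_of_pos_right k t.succ_pos) ((Nat.le_succ _).trans (Nat.le_succ _))
  let ub : (B ⧸ J ^ (M + 1)) →ₐ[A] E ⧸ I :=
    Ideal.Quotient.liftₐ _ u fun x hx => hk x (Ideal.pow_le_pow_right hkM hx)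
  obtain ⟨w, hw⟩ := Algebra.FormallySmooth.exists_lift I ⟨t, ht⟩ (ub.comp π)
  let w' : P →ₐ[A] E := w.comp ((proj s).restrictScalars A)
  have hw' : ∀ f, Ideal.Quotient.mk I (w' f) = ub (π f) := fun f =>
    (AlgHom.congr_fun hw (proj s f)).trans (congrArg ub (hπproj f))
  have hwk : (p ^ k).map w.toRingHom ≤ I := by
    rw [Ideal.map_le_iff_le_comap]
    intro f hf
    rw [Ideal.mem_comap, ← Ideal.Quotient.eq_zero_iff_mem]
    show Ideal.Quotient.mk I (w f) = 0
    rw [show Ideal.Quotient.mk I (w f) = ub (π f) from AlgHom.congr_fun hw f]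
    have h1 := hπpow k f hf
    rw [← Ideal.map_pow] at h1
    obtain ⟨z, hz, hz'⟩ := (Ideal.mem_map_iff_of_surjective _ Ideal.Quotient.mk_surjective).mp h1
    rw [← hz']
    exact hk z hz
  have hw0 : ∀ f, π f = 0 → w' f = 0 := fun f hf => by
    have h1 : proj s f ∈ (p ^ k) ^ t := by
      rw [← pow_mul]
      refine Ideal.pow_le_pow_right ?_ (hker f hf (M + 1) le_rfl)
      show k * t ≤ k * (t + 1) + 1 + 1
      rw [Nat.mul_succ]; omega
    have h2 := Ideal.pow_right_mono hwk t (by rw [← Ideal.map_pow]; exact Ideal.mem_map_of_mem w.toRingHom h1)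
    rw [ht] at h2
    exact h2
  let v : (B ⧸ J ^ (M + 1)) →ₐ[A] E :=
    (Ideal.Quotient.liftₐ (RingHom.ker π.toRingHom) w' hw0).comp (Ideal.quotientKerAlgEquivOfSurjective hπsurj).symm.toAlgHom
  refine ⟨v.comp (Ideal.Quotient.mkₐ A _), AlgHom.ext fun b => ?_⟩
  obtain ⟨f, hf⟩ := hπsurj (Ideal.Quotient.mk _ b)
  show Ideal.Quotient.mk I (v (Ideal.Quotient.mk _ b)) = u b
  have hvf : v (π f) = w' f := by
    show (Ideal.Quotient.liftₐ (RingHom.ker π.toRingHom) w' hw0) ((Ideal.quotientKerAlgEquivOfSurjective hπsurj).symm (π f)) = w' f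
    rw [show (Ideal.quotientKerAlgEquivOfSurjective hπsurj).symm (π f) = Ideal.Quotient.mk _ f from
      (Ideal.quotientKerAlgEquivOfSurjective hπsurj).injective (by rw [AlgEquiv.apply_symm_apply]; rfl)]
    rfl
  rw [← hf, hvf, hw', hf]
  rfl

/-- The criterion. -/
theorem isAdicFormallySmooth_iff_symGr :
    CAlgX.IsAdicFormallySmooth A B J ↔ (Module.Projective (B ⧸ J) J.Cotangent ∧ PP16.SymGrBijective B J) :=
  ⟨fun h => ⟨projective_cotangent J h, symGrBijective J h⟩, fun ⟨_, h⟩ => isAdicFormallySmooth_of_symGr J h⟩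

end Groth.Ega41SymGr
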